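import Mathlib
import Cfsg.Agent.Lib.Helper8.TW.Defs
import Cfsg.Agent.Lib.Helper20.UTDefs
import Cfsg.Agent.Lib.Helper23.TWUQDefs

/-!
# S5672 (C7 unitary: `GU_k wr S_t` maximal in `SU_n(q)`, `n = k^t`; owner helper5) — THE UNITARY LAYER

Model: `V = F^(Fin t → Fin k)` (`Helper8.TW.Idx t k`), `|F| = q²`, ALL hermitian forms are the standard ones
`hv q x y = Σ x_i y_i^q` (`Helper20.UT.hv`, generic index type): on `A = F^k` and on `V`; `hv q (pt v) (pt w) = ∏ hv q (v j) (w j)`.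
Everything form-free is helper8's `Helper8.TW` (S5641): `Idx pt slice fib Wf Cf rootN slot slotGL ext extGL RD Gstd SLV img conjG mv`.

Unitary vocabulary (this file):
* `Iso q y`  (`hv q y y = 0`),  `dag q y = cj q y` (the functional `y† = hv q · y` as a row vector),  `Sk q = {c | c^q = -c}`;
* `RU q r`   the ADMISSIBLE root data: `r.y` isotropic and `r.η = y†`;  `urd` builds one;  `ugrp` the UNITARY root group
  `{r.elt c | c ∈ Sk q}` (order `q`; `RD.grp` of helper8 is the full `F`-root group of order `q²`, do not use it here);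
* `GUV`, `DUV` (similitudes), `SUV = GUV ⊓ SLV`, `HU = Gstd ⊓ SUV`;  `perpU q W`;
* `NSU q X = Helper23.TWUQ.NSp (Iso q) X`,  `FCU q X = Helper23.TWUQ.FCp (RU q) (Sk q) X`;
* `nilU J y` (`∏_{j∈J} slot j (y_j y_j†)` by entries), `XTU q X J`;  `MainTU t k q F`.
See `notes/S5672_plan.md`.
-/

set_option autoImplicit false
set_option linter.unusedSectionVars false
set_option linter.unusedVariables false

namespace Cfsg.Agent.Lib.Helper5.TWU
open Matrix Cfsg.Geo Cfsg.Agent.Lib.Helper18.AschA89 Cfsg.Agent.Lib.Helper8.TW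
open Cfsg.Agent.Lib.Helper20.UT (hv)

variable {F : Type*} [Field F] {t k : ℕ}

/-! ### isotropy, admissible scalars -/

/-- `y` is isotropic for the standard hermitian form (no `y ≠ 0` built in) -/
def Iso {κ : Type} [Fintype κ] (q : ℕ) (y : κ → F) : Prop := hv q y y = 0

/-- the functional `y† = hv q · y`, as a vector: `dag q y ⬝ᵥ a = hv q a y` -/
abbrev dag {κ : Type} (q : ℕ) (y : κ → F) : κ → F := Cfsg.Agent.Lib.Helper20.UT.cj q y

/-- the admissible scalars `c + c^q = 0`, in the form `c^q = -c` (as in `Helper20.UT.SsetI`) -/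
def Sk (q : ℕ) : Set F := {c | c ^ q = -c}

lemma mem_Sk {q : ℕ} {c : F} : c ∈ (Sk q : Set F) ↔ c ^ q = -c := Iff.rfl

/-- orthogonal complement for the standard hermitian form (linear in the first argument) -/
def perpU {κ : Type} [Fintype κ] (q : ℕ) (W : Submodule F (κ → F)) : Submodule F (κ → F) where
  carrier := {v | ∀ w ∈ W, hv q v w = 0}
  add_mem' := by
    intro a b ha hb w hw
    rw [Cfsg.Agent.Lib.Helper20.UT.hv_add_left, ha w hw, hb w hw, add_zero]
  zero_mem' := by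
    intro w _
    exact Cfsg.Agent.Lib.Helper20.UT.hv_zero_left q w
  smul_mem' := by
    intro c a ha w hw
    rw [Cfsg.Agent.Lib.Helper20.UT.hv_smul_left, ha w hw, mul_zero]

lemma mem_perpU {κ : Type} [Fintype κ] {q : ℕ} {W : Submodule F (κ → F)} {v : κ → F} :
    v ∈ perpU q W ↔ ∀ w ∈ W, hv q v w = 0 := Iff.rfl

/-- totally isotropic -/
def TI {κ : Type} [Fintype κ] (q : ℕ) (W : Submodule F (κ → F)) : Prop := ∀ v ∈ W, ∀ w ∈ W, hv q v w = 0

/-! ### admissible root data -/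

/-- the ADMISSIBLE root data of the unitary case: `r.y` isotropic, `r.η = r.y†` -/
def RU (q : ℕ) (r : RD t k F) : Prop := hv q r.y r.y = 0 ∧ r.η = dag q r.y

lemma dag_ne_zero {κ : Type} {q : ℕ} {y : κ → F} (hy : y ≠ 0) : dag q y ≠ 0 := by
  intro h
  apply hy
  funext i
  have h1 : (y i) ^ q = 0 := congrFun h i
  exact eq_zero_of_pow_eq_zero h1

/-- the admissible root datum of an isotropic `y ≠ 0` at position `i` -/
def urd (q : ℕ) (i : Fin t) (y : Fin k → F) (hy0 : y ≠ 0) (hy : hv q y y = 0) : RD t k F :=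
  ⟨i, y, dag q y, hy0, dag_ne_zero hy0, by
    rw [← Cfsg.Agent.Lib.Helper20.UT.hv_eq_dot]; exact hy⟩

lemma urd_RU (q : ℕ) (i : Fin t) (y : Fin k → F) (hy0 : y ≠ 0) (hy : hv q y y = 0) :
    RU q (urd q i y hy0 hy) := ⟨hy, rfl⟩

@[simp] lemma urd_i (q : ℕ) (i : Fin t) (y : Fin k → F) (hy0 : y ≠ 0) (hy : hv q y y = 0) :
    (urd q i y hy0 hy).i = i := rfl

@[simp] lemma urd_y (q : ℕ) (i : Fin t) (y : Fin k → F) (hy0 : y ≠ 0) (hy : hv q y y = 0) :
    (urd q i y hy0 hy).y = y := rfl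

@[simp] lemma urd_η (q : ℕ) (i : Fin t) (y : Fin k → F) (hy0 : y ≠ 0) (hy : hv q y y = 0) :
    (urd q i y hy0 hy).η = dag q y := rfl

/-- the UNITARY root group `{1 + c N : c^q = -c}` (a subgroup: `Sk q` is an additive subgroup when `|F| = q²`) -/
def ugrp [Fintype F] {q : ℕ} (hF : Fintype.card F = q ^ 2) (r : RD t k F) : Subgroup (GL (Idx t k) F) where
  carrier := {g | ∃ c : F, c ^ q = -c ∧ g = r.elt c}
  mul_mem' := by
    rintro a b ⟨c, hc, rfl⟩ ⟨d, hd, rfl⟩
    refine ⟨c + d, ?_, r.elt_mul c d⟩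
    rw [Cfsg.Agent.Lib.Helper20.UT.add_pow_q hF, hc, hd]; ring
  one_mem' := ⟨0, by
    have hq : q ≠ 0 := by
      rintro rfl
      have : 2 ≤ Fintype.card F := Fintype.one_lt_card
      omega
    rw [zero_pow hq, neg_zero], r.elt_zero.symm⟩
  inv_mem' := by
    rintro a ⟨c, hc, rfl⟩
    refine ⟨-c, ?_, r.elt_inv c⟩
    rw [Cfsg.Agent.Lib.Helper20.UT.neg_pow_q hF, hc]

lemma mem_ugrp [Fintype F] {q : ℕ} (hF : Fintype.card F = q ^ 2) (r : RD t k F) (g : GL (Idx t k) F) :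
    g ∈ ugrp hF r ↔ ∃ c : F, c ^ q = -c ∧ g = r.elt c := Iff.rfl

lemma elt_mem_ugrp [Fintype F] {q : ℕ} (hF : Fintype.card F = q ^ 2) (r : RD t k F) {c : F} (hc : c ^ q = -c) :
    r.elt c ∈ ugrp hF r := ⟨c, hc, rfl⟩

/-! ### the groups -/

/-- the isometry group of `hv q` on the model `V = F^(Idx t k)` -/
def GUV (t k q : ℕ) (F : Type*) [Field F] : Subgroup (GL (Idx t k) F) :=
  Cfsg.preserving (Units.coeHom (Matrix (Idx t k) (Idx t k) F)) (hv q)

/-- the similitudes of `hv q` on the model -/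
def DUV (t k q : ℕ) (F : Type*) [Field F] : Subgroup (GL (Idx t k) F) :=
  Cfsg.Geo.similarityGroup (hv q : (Idx t k → F) → (Idx t k → F) → F)

/-- `SU(V) = GU(V) ∩ SL(V)` -/
def SUV (t k q : ℕ) (F : Type*) [Field F] : Subgroup (GL (Idx t k) F) := GUV t k q F ⊓ SLV t k F

/-- `H = G ∩ SU(V)` -/
def HU (t k q : ℕ) (F : Type*) [Field F] : Subgroup (GL (Idx t k) F) := Gstd t k F ⊓ SUV t k q F

lemma mem_GUV {q : ℕ} {g : GL (Idx t k) F} :
    g ∈ GUV t k q F ↔ ∀ u v, hv q (mv g u) (mv g v) = hv q u v := Iff.rfl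

lemma mem_DUV {q : ℕ} {g : GL (Idx t k) F} :
    g ∈ DUV t k q F ↔ ∃ c : Fˣ, ∀ u v, hv q (mv g u) (mv g v) = (c : F) * hv q u v := Iff.rfl

lemma GUV_le_DUV {q : ℕ} : GUV t k q F ≤ DUV t k q F := by
  intro g hg
  exact ⟨1, fun u v => by rw [Units.val_one, one_mul]; exact hg u v⟩

/-- the isometry group of `hv q` on `A = F^k`, its similitudes -/
def GUA (k q : ℕ) (F : Type*) [Field F] : Subgroup (GL (Fin k) F) :=
  Cfsg.preserving (Units.coeHom (Matrix (Fin k) (Fin k) F)) (hv q)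

def DUA (k q : ℕ) (F : Type*) [Field F] : Subgroup (GL (Fin k) F) :=
  Cfsg.Geo.similarityGroup (hv q : (Fin k → F) → (Fin k → F) → F)

/-! ### the key properties of an overgroup -/

/-- NS (unitary): an element of `X` mapping an ISOTROPIC fibre onto an ISOTROPIC fibre lies in `G` -/
abbrev NSU (q : ℕ) (X : Subgroup (GL (Idx t k) F)) : Prop :=
  Cfsg.Agent.Lib.Helper23.TWUQ.NSp (Iso q) X

/-- FC (unitary): an element of `X` conjugating a unitary root group into `G` lies in `G` -/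
abbrev FCU (q : ℕ) (X : Subgroup (GL (Idx t k) F)) : Prop :=
  Cfsg.Agent.Lib.Helper23.TWUQ.FCp (RU q) (Sk q) X

/-- the `J`-elementary unitary nilpotent `∏_{j ∈ J} slot j (y_j y_j†)`, by its entries
(`= (v v†) ⊗ 1` for the pure vector `v = ⊗_{j∈J} y_j` of `A^{⊗J}`) -/
def nilU (q : ℕ) (J : Finset (Fin t)) (y : Fin t → Fin k → F) : Matrix (Idx t k) (Idx t k) F :=
  fun x x' => if ∀ j, j ∉ J → x j = x' j then ∏ j ∈ J, y j (x j) * (y j (x' j)) ^ q else 0

/-- XT_J(X) (unitary): all `1 + c nilU J y` (`y j ≠ 0` isotropic for `j ∈ J`, `c^q = -c`) lie in `X` -/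
def XTU (q : ℕ) (X : Subgroup (GL (Idx t k) F)) (J : Finset (Fin t)) : Prop :=
  ∀ (y : Fin t → Fin k → F) (c : F), (∀ j ∈ J, y j ≠ 0 ∧ hv q (y j) (y j) = 0) → c ^ q = -c →
    InM X (1 + c • nilU q J y)

/-- the MAIN THEOREM `T_U(t)` for the model with `t` factors: overgroups of `H` inside the similitudes -/
def MainTU (t k q : ℕ) (F : Type*) [Field F] : Prop :=
  ∀ X : Subgroup (GL (Idx t k) F), HU t k q F ≤ X → X ≤ DUV t k q F →
    X ≤ Gstd t k F ∨ SUV t k q F ≤ X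

end Cfsg.Agent.Lib.Helper5.TWU
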