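import Mathlib
import Cfsg.Agent.Lib.Helper5.TWU.Defs

/-!
S5672 Stage I: the structures `CtxU`, `KeyU`, `MaxCfgU`, `FRWU` used in the Stage I leaves (`notes/S5672_I_leaves.lean`).
Unitary twins of helper8's `Ctx`, `Key`, `MaxCfg`, `FRW` (`Helper8/TW/StageIDefs.lean`).
-/

set_option autoImplicit false
set_option linter.unusedSectionVars false
set_option linter.unusedVariables false

namespace Cfsg.Agent.Lib.Helper5.TWU
open Matrix Cfsg.Geo Cfsg.Agent.Lib.Helper18.AschA89 Cfsg.Agent.Lib.Helper8.TW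
open Cfsg.Agent.Lib.Helper20.UT (hv)

variable {F : Type*} [Field F] [Fintype F] {t k : ℕ}

/-- the standing hypotheses of Stage I (unitary) -/
structure CtxU (q : ℕ) (X : Subgroup (GL (Idx t k) F)) : Prop where
  hF : Fintype.card F = q ^ 2
  hk : 3 ≤ k
  ht : 2 ≤ t
  hex : ¬ (q = 2 ∧ k = 3)
  hHX : HU t k q F ≤ X
  hXD : X ≤ DUV t k q F
  ns : NSU q X
  fc : FCU q X

/-- the output of the fixed point trick (I2) + (I3) for `g` and ADMISSIBLE `r₁`, `r₂`: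
`x ∈ ⟨T₁, T'⟩` (unitary root groups) with `x⁻¹ g ∈ G`; `r₃` admissible with `W₃ = x⁻¹ W'` -/
structure KeyU {q : ℕ} (hF : Fintype.card F = q ^ 2) (g : GL (Idx t k) F) (r₁ r₂ : RD t k F)
    (x : GL (Idx t k) F) (r₃ : RD t k F) : Prop where
  hr₃ : RU q r₃
  x_mem : x ∈ ugrp hF r₁ ⊔ conjG g (ugrp hF r₂)
  h_mem : x⁻¹ * g ∈ Gstd t k F
  hW : img x r₃.W = img g r₂.W
  h1 : r₃.W ≤ r₁.W ⊔ img g r₂.W
  h2 : img g r₂.W ⊓ r₁.C ≤ r₃.W
  hx1 : ∀ v, mv x v - v ∈ r₁.W ⊔ img g r₂.W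
  hx2 : ∀ v ∈ r₁.C ⊓ img g r₂.C, mv x v = v

/-- a configuration `Wf j z ∩ g r₂.W ≠ 0` (`z` isotropic, `r₂` admissible, `g ∈ X \ G`) of MAXIMAL dimension -/
structure MaxCfgU (q : ℕ) (X : Subgroup (GL (Idx t k) F)) (g : GL (Idx t k) F) (r₂ : RD t k F) (j : Fin t)
    (z : Fin k → F) : Prop where
  hgX : g ∈ X
  hgG : g ∉ Gstd t k F
  hr₂ : RU q r₂
  hz : z ≠ 0
  hzi : hv q z z = 0
  hne : Wf j z ⊓ img g r₂.W ≠ ⊥
  hmax : ∀ g' ∈ X, g' ∉ Gstd t k F → ∀ (r' : RD t k F), RU q r' → ∀ (j' : Fin t) (z' : Fin k → F), z' ≠ 0 →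
    hv q z' z' = 0 →
    Module.finrank F (Wf j' z' ⊓ img g' r'.W : Submodule F (Idx t k → F)) ≤
      Module.finrank F (Wf j z ⊓ img g r₂.W : Submodule F (Idx t k → F))

/-- the FR world for `g ∈ X \ G`, `r₂` admissible: `W' = g W₂` meets no `W(i,y)^⊥`, `C' = g C₂` meets no `W(i,y)` (`y` isotropic) -/
structure FRWU (q : ℕ) (X : Subgroup (GL (Idx t k) F)) (g : GL (Idx t k) F) (r₂ : RD t k F) : Prop where
  hgX : g ∈ X
  hgG : g ∉ Gstd t k F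
  hr₂ : RU q r₂
  fr1 : ∀ (i : Fin t) (y : Fin k → F), y ≠ 0 → hv q y y = 0 → img g r₂.W ⊓ Cf i (dag q y) = ⊥
  fr2 : ∀ (i : Fin t) (y : Fin k → F), y ≠ 0 → hv q y y = 0 → Wf i y ⊓ img g r₂.C = ⊥

end Cfsg.Agent.Lib.Helper5.TWU
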