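import Mathlib
import Cfsg.Agent.Lib.Helper8.TW.Defs

/-!
S5672 Stage I leaf I6-abs `exists_b0_nu` (`notes/S5672_I_leaves.lean`): the abstract `b₀` with a multiplier `ν`
(generalises `Helper9.SOTLeaf.exists_b0_abstract`, which is the case `ν = -1`): closure induction on pairs of words
`(l, l~)`, `l~` = the same word with the parameters multiplied by `ν` (first kind of letters) resp. `ν⁻¹` (second kind).
-/

set_option autoImplicit false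
set_option linter.unusedSectionVars false
set_option linter.unusedVariables false

namespace Cfsg.Agent.Lib.Helper5.TWULeaf
open Matrix Cfsg.Geo Cfsg.Agent.Lib.Helper18.AschA89 Cfsg.Agent.Lib.Helper8.TW

variable {F : Type*} [Field F] [Fintype F]

section abs
variable {ι : Type} [Fintype ι] [DecidableEq ι]

lemma b0_mv_one (v : ι → F) : mv (1 : GL ι F) v = v := by
  unfold mv; rw [Units.val_one, Matrix.one_mulVec]

lemma b0_mv_add (g : GL ι F) (v w : ι → F) : mv g (v + w) = mv g v + mv g w := by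
  unfold mv; rw [Matrix.mulVec_add]

lemma b0_mv_smul (g : GL ι F) (c : F) (v : ι → F) : mv g (c • v) = c • mv g v := by
  unfold mv; rw [Matrix.mulVec_smul]

lemma b0_mv_mul (g h : GL ι F) (v : ι → F) : mv (g * h) v = mv g (mv h v) := by
  unfold mv
  rw [Units.val_mul, Matrix.mulVec_mulVec]

lemma b0_mv_inv_mv (g : GL ι F) (v : ι → F) : mv g⁻¹ (mv g v) = v := by
  rw [← b0_mv_mul, inv_mul_cancel, b0_mv_one]

lemma b0_gl_ext {g h : GL ι F} (H : ∀ v, mv g v = mv h v) : g = h := by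
  apply Units.ext
  apply Matrix.toLin'.injective
  apply LinearMap.ext
  intro v
  rw [Matrix.toLin'_apply, Matrix.toLin'_apply]
  exact H v

/-- the invariant on pairs `(l, l~)`: both fix `Y` pointwise and `l~ = D l D⁻¹` modulo `K`, `D` = `1` on `R`,
`ν⁻¹` on `R'' ⊔ Y` -/
def PairNu (ν : F) (R R'' Y K : Submodule F (ι → F)) (l lt : GL ι F) : Prop :=
  (∀ v ∈ Y, mv l v = v) ∧ (∀ v ∈ Y, mv lt v = v) ∧
  (∀ v ∈ R, ∃ r₁ ∈ R, ∃ r₂ ∈ R'' ⊔ Y, ∃ k ∈ K, mv l v = r₁ + r₂ ∧ mv lt v = r₁ + ν⁻¹ • r₂ + k) ∧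
  (∀ v ∈ R'' ⊔ Y, ∃ r₁ ∈ R, ∃ r₂ ∈ R'' ⊔ Y, ∃ k ∈ K, mv l v = r₁ + r₂ ∧ mv lt v = ν • r₁ + r₂ + k)

lemma PairNu.one (ν : F) (R R'' Y K : Submodule F (ι → F)) : PairNu ν R R'' Y K 1 1 := by
  refine ⟨fun v _ => b0_mv_one v, fun v _ => b0_mv_one v, ?_, ?_⟩
  · intro v hv
    refine ⟨v, hv, 0, Submodule.zero_mem _, 0, Submodule.zero_mem _, ?_, ?_⟩
    · rw [b0_mv_one, add_zero]
    · rw [b0_mv_one, smul_zero, add_zero, add_zero]
  · intro v hv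
    refine ⟨0, Submodule.zero_mem _, v, hv, 0, Submodule.zero_mem _, ?_, ?_⟩
    · rw [b0_mv_one, zero_add]
    · rw [b0_mv_one, smul_zero, zero_add, add_zero]

lemma PairNu.mul {ν : F} (hν : ν ≠ 0) {R R'' Y K : Submodule F (ι → F)} (hKY : K ≤ Y) {l lt m mt : GL ι F}
    (h1 : PairNu ν R R'' Y K l lt) (h2 : PairNu ν R R'' Y K m mt) :
    PairNu ν R R'' Y K (l * m) (lt * mt) := by
  obtain ⟨l1, l2, l3, l4⟩ := h1
  obtain ⟨m1, m2, m3, m4⟩ := h2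
  refine ⟨?_, ?_, ?_, ?_⟩
  · intro v hv; rw [b0_mv_mul, m1 v hv, l1 v hv]
  · intro v hv; rw [b0_mv_mul, m2 v hv, l2 v hv]
  · intro v hv
    obtain ⟨r₁, hr₁, r₂, hr₂, k, hk, e1, e1'⟩ := m3 v hv
    obtain ⟨s₁, hs₁, s₂, hs₂, k', hk', e2, e2'⟩ := l3 r₁ hr₁
    obtain ⟨t₁, ht₁, t₂, ht₂, k'', hk'', e3, e3'⟩ := l4 r₂ hr₂
    refine ⟨s₁ + t₁, R.add_mem hs₁ ht₁, s₂ + t₂, (R'' ⊔ Y).add_mem hs₂ ht₂,
      k' + ν⁻¹ • k'' + k, K.add_mem (K.add_mem hk' (K.smul_mem _ hk'')) hk, ?_, ?_⟩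
    · rw [b0_mv_mul, e1, b0_mv_add, e2, e3]; abel
    · rw [b0_mv_mul, e1', b0_mv_add, b0_mv_add, b0_mv_smul, e2', e3', l2 k (hKY hk), smul_add, smul_add,
        smul_smul, inv_mul_cancel₀ hν, one_smul, smul_add]
      abel
  · intro v hv
    obtain ⟨r₁, hr₁, r₂, hr₂, k, hk, e1, e1'⟩ := m4 v hv
    obtain ⟨s₁, hs₁, s₂, hs₂, k', hk', e2, e2'⟩ := l3 r₁ hr₁
    obtain ⟨t₁, ht₁, t₂, ht₂, k'', hk'', e3, e3'⟩ := l4 r₂ hr₂
    refine ⟨s₁ + t₁, R.add_mem hs₁ ht₁, s₂ + t₂, (R'' ⊔ Y).add_mem hs₂ ht₂,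
      ν • k' + k'' + k, K.add_mem (K.add_mem (K.smul_mem _ hk') hk'') hk, ?_, ?_⟩
    · rw [b0_mv_mul, e1, b0_mv_add, e2, e3]; abel
    · rw [b0_mv_mul, e1', b0_mv_add, b0_mv_add, b0_mv_smul, e2', e3', l2 k (hKY hk), smul_add, smul_add,
        smul_smul, mul_inv_cancel₀ hν, one_smul, smul_add]
      abel

end abs

/-- I6-abs: ABSTRACT `b₀` with a multiplier `ν` -/
theorem exists_b0_nu {ι : Type} [Fintype ι] [DecidableEq ι] (N N'' : Matrix ι ι F)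
    (R R'' Y K : Submodule F (ι → F))
    (hNR : ∀ v, N *ᵥ v ∈ R) (hN''R : ∀ v, N'' *ᵥ v ∈ R'')
    (hN0 : ∀ v ∈ R ⊔ Y, N *ᵥ v = 0) (hN''0 : ∀ v ∈ R'' ⊔ Y, N'' *ᵥ v = 0)
    (hKR : K ≤ R) (hKR'' : K ≤ R'') (hKY : K ≤ Y) (hRK : R ⊓ (R'' ⊔ Y) ≤ K)
    (S : Set F) (hSneg : ∀ c ∈ S, -c ∈ S) (ν : F) (hν : ν ≠ 0) (hSν : ∀ c ∈ S, ν * c ∈ S) (hSν' : ∀ c ∈ S, ν⁻¹ * c ∈ S)
    (uN uN'' : F → GL ι F) (huN : ∀ c, ((uN c : GL ι F) : Matrix ι ι F) = 1 + c • N)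
    (huN'' : ∀ c, ((uN'' c : GL ι F) : Matrix ι ι F) = 1 + c • N'')
    (x₀ : GL ι F)
    (hx₀ : x₀ ∈ Subgroup.closure ({t | ∃ c ∈ S, t = uN c} ∪ {t | ∃ c ∈ S, t = uN'' c}))
    (hmap : ∀ v ∈ R, mv x₀ v ∈ R'') :
    ∃ b₀ ∈ Subgroup.closure ({t | ∃ c ∈ S, t = uN c} ∪ {t | ∃ c ∈ S, t = uN'' c}),
      (∀ v ∈ Y, mv b₀ v = v) ∧ ∀ v ∈ R, mv b₀ v - ν⁻¹ • v ∈ K := by
  have hRle : R ≤ R ⊔ Y := le_sup_left
  have hYle : Y ≤ R ⊔ Y := le_sup_right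
  have hR''le : R'' ≤ R'' ⊔ Y := le_sup_left
  have hYle'' : Y ≤ R'' ⊔ Y := le_sup_right
  have mvN : ∀ c v, mv (uN c) v = v + c • (N *ᵥ v) := by
    intro c v
    change ((uN c : GL ι F) : Matrix ι ι F) *ᵥ v = _
    rw [huN, Matrix.add_mulVec, Matrix.one_mulVec, Matrix.smul_mulVec]
  have mvN'' : ∀ c v, mv (uN'' c) v = v + c • (N'' *ᵥ v) := by
    intro c v
    change ((uN'' c : GL ι F) : Matrix ι ι F) *ᵥ v = _
    rw [huN'', Matrix.add_mulVec, Matrix.one_mulVec, Matrix.smul_mulVec]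
  have invN : ∀ c, (uN c)⁻¹ = uN (-c) := by
    intro c
    apply inv_eq_of_mul_eq_one_right
    apply b0_gl_ext; intro v
    rw [b0_mv_mul, b0_mv_one, mvN c, mvN (-c), Matrix.mulVec_add, Matrix.mulVec_smul,
      hN0 _ (hRle (hNR v)), smul_zero, add_zero, neg_smul]
    abel
  have invN'' : ∀ c, (uN'' c)⁻¹ = uN'' (-c) := by
    intro c
    apply inv_eq_of_mul_eq_one_right
    apply b0_gl_ext; intro v
    rw [b0_mv_mul, b0_mv_one, mvN'' c, mvN'' (-c), Matrix.mulVec_add, Matrix.mulVec_smul,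
      hN''0 _ (hR''le (hN''R v)), smul_zero, add_zero, neg_smul]
    abel
  set T : Set (GL ι F) := {t | ∃ c ∈ S, t = uN c} ∪ {t | ∃ c ∈ S, t = uN'' c} with hT
  have Tinv : ∀ x ∈ T, x⁻¹ ∈ T := by
    rintro x (⟨c, hc, rfl⟩ | ⟨c, hc, rfl⟩)
    · exact Or.inl ⟨-c, hSneg c hc, invN c⟩
    · exact Or.inr ⟨-c, hSneg c hc, invN'' c⟩
  have gen : ∀ x ∈ T, ∃ xt ∈ Subgroup.closure T, PairNu ν R R'' Y K x xt := by
    rintro x (⟨c, hc, rfl⟩ | ⟨c, hc, rfl⟩)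
    · refine ⟨uN (ν * c), Subgroup.subset_closure (Or.inl ⟨ν * c, hSν c hc, rfl⟩), ?_, ?_, ?_, ?_⟩
      · intro v hv; rw [mvN, hN0 v (hYle hv), smul_zero, add_zero]
      · intro v hv; rw [mvN, hN0 v (hYle hv), smul_zero, add_zero]
      · intro v hv
        refine ⟨v, hv, 0, Submodule.zero_mem _, 0, Submodule.zero_mem _, ?_, ?_⟩
        · rw [mvN, hN0 v (hRle hv), smul_zero]
        · rw [mvN, hN0 v (hRle hv)]; simp only [smul_zero, add_zero]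
      · intro v hv
        refine ⟨c • (N *ᵥ v), R.smul_mem c (hNR v), v, hv, 0, Submodule.zero_mem _, ?_, ?_⟩
        · rw [mvN, add_comm]
        · rw [mvN, add_zero, smul_smul, add_comm]
    · refine ⟨uN'' (ν⁻¹ * c), Subgroup.subset_closure (Or.inr ⟨ν⁻¹ * c, hSν' c hc, rfl⟩), ?_, ?_, ?_, ?_⟩
      · intro v hv; rw [mvN'', hN''0 v (hYle'' hv), smul_zero, add_zero]
      · intro v hv; rw [mvN'', hN''0 v (hYle'' hv), smul_zero, add_zero]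
      · intro v hv
        refine ⟨v, hv, c • (N'' *ᵥ v), hR''le (R''.smul_mem c (hN''R v)), 0,
          Submodule.zero_mem _, ?_, ?_⟩
        · rw [mvN'']
        · rw [mvN'', add_zero, smul_smul]
      · intro v hv
        refine ⟨0, Submodule.zero_mem _, v, hv, 0, Submodule.zero_mem _, ?_, ?_⟩
        · rw [mvN'', hN''0 v hv, smul_zero, add_zero, zero_add]
        · rw [mvN'', hN''0 v hv, smul_zero, add_zero, smul_zero, zero_add, add_zero]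
  have key : ∀ x ∈ Subgroup.closure T, ∃ xt ∈ Subgroup.closure T, PairNu ν R R'' Y K x xt := by
    intro x hx
    induction hx using Subgroup.closure_induction'' with
    | mem x hx => exact gen x hx
    | inv_mem x hx => exact gen x⁻¹ (Tinv x hx)
    | one => exact ⟨1, Subgroup.one_mem _, PairNu.one ν R R'' Y K⟩
    | mul x y hx hy ihx ihy =>
      obtain ⟨xt, hxt, px⟩ := ihx
      obtain ⟨yt, hyt, py⟩ := ihy
      exact ⟨xt * yt, Subgroup.mul_mem _ hxt hyt, px.mul hν hKY py⟩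
  obtain ⟨xt, hxt, p1, p2, p3, p4⟩ := key x₀ hx₀
  have hinvfix : ∀ v ∈ Y, mv x₀⁻¹ v = v := by
    intro v hv
    conv_lhs => rw [← p1 v hv]
    rw [b0_mv_inv_mv]
  refine ⟨x₀⁻¹ * xt, Subgroup.mul_mem _ (Subgroup.inv_mem _ hx₀) hxt, ?_, ?_⟩
  · intro v hv
    rw [b0_mv_mul, p2 v hv, hinvfix v hv]
  · intro v hv
    obtain ⟨r₁, hr₁, r₂, hr₂, k, hk, e1, e2⟩ := p3 v hv
    have hr₁K : r₁ ∈ K := by
      apply hRK
      refine ⟨hr₁, ?_⟩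
      have : r₁ = mv x₀ v - r₂ := by rw [e1]; abel
      rw [this]
      exact (R'' ⊔ Y).sub_mem (hR''le (hmap v hv)) hr₂
    have hk' : (1 - ν⁻¹) • r₁ + k ∈ K := K.add_mem (K.smul_mem _ hr₁K) hk
    have e3 : mv xt v = ν⁻¹ • mv x₀ v + ((1 - ν⁻¹) • r₁ + k) := by
      rw [e2, e1, smul_add, sub_smul, one_smul]; abel
    rw [b0_mv_mul, e3, b0_mv_add, b0_mv_smul, b0_mv_inv_mv, hinvfix _ (hKY hk')]
    have : ν⁻¹ • v + ((1 - ν⁻¹) • r₁ + k) - ν⁻¹ • v = (1 - ν⁻¹) • r₁ + k := by abel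
    rw [this]
    exact hk'

end Cfsg.Agent.Lib.Helper5.TWULeaf
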