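import Mathlib
import Cfsg.Agent.Lib.Helper5.TWU.Defs
import Cfsg.Agent.Lib.Helper5.TWU.StageIDefs
import Cfsg.Agent.Lib.Helper5.TWU.IB0abs
import Cfsg.Agent.Lib.Helper16.TWImg
import Cfsg.Agent.Lib.Helper16.TWRootA
import Cfsg.Agent.Lib.Helper23.UTG

/-!
S5672 Stage I leaves (`notes/S5672_I_leaves.lean`): UT11 `usup_le`, I0 `nonempty_RU`, I6-b0 `b0U`.
-/

set_option autoImplicit false
set_option linter.unusedSectionVars false
set_option linter.unusedVariables false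

namespace Cfsg.Agent.Lib.Helper5.TWULeaf
open Matrix Cfsg.Geo Cfsg.Agent.Lib.Helper18.AschA89 Cfsg.Agent.Lib.Helper8.TW Cfsg.Agent.Lib.Helper5.TWU
open Cfsg.Agent.Lib.Helper20.UT (hv)
open Cfsg.Agent.Lib.Helper16.TWLeaf

variable {F : Type*} [Field F] [Fintype F] {t k q : ℕ}

lemma ugrp_le_grp (hF : Fintype.card F = q ^ 2) (r : RD t k F) : ugrp hF r ≤ r.grp := by
  rintro x ⟨c, -, rfl⟩
  exact ⟨c, rfl⟩

theorem usup_le (hF : Fintype.card F = q ^ 2) (g : GL (Idx t k) F) (r₁ r₂ : RD t k F) :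
    ugrp hF r₁ ⊔ conjG g (ugrp hF r₂) ≤ r₁.grp ⊔ conjG g r₂.grp := by
  apply sup_le_sup (ugrp_le_grp hF r₁)
  unfold conjG
  exact Subgroup.map_mono (ugrp_le_grp hF r₂)

theorem nonempty_RU (hF : Fintype.card F = q ^ 2) (hk : 2 ≤ k) (ht : 0 < t) : ∃ r : RD t k F, RU q r := by
  obtain ⟨y, -, hy0, hy⟩ := Cfsg.Agent.Lib.Helper23.UTLeaf.exists_iso_mem (q := q) hF
    (⊤ : Submodule F (Fin k → F)) (by rw [finrank_top, Module.finrank_fin_fun]; exact hk)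
  exact ⟨urd q ⟨0, ht⟩ y hy0 hy, urd_RU q ⟨0, ht⟩ y hy0 hy⟩

/-- the set of a unitary root group -/
lemma coe_ugrp (hF : Fintype.card F = q ^ 2) (r : RD t k F) :
    ((ugrp hF r : Subgroup (GL (Idx t k) F)) : Set (GL (Idx t k) F)) = {x | ∃ c ∈ (Sk q : Set F), x = r.elt c} := by
  ext x
  constructor
  · rintro ⟨c, hc, rfl⟩
    exact ⟨c, hc, rfl⟩
  · rintro ⟨c, hc, rfl⟩
    exact ⟨c, hc, rfl⟩

lemma coe_conj_ugrp (hF : Fintype.card F = q ^ 2) (g : GL (Idx t k) F) (r : RD t k F) :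
    ((conjG g (ugrp hF r) : Subgroup (GL (Idx t k) F)) : Set (GL (Idx t k) F)) =
      {x | ∃ c ∈ (Sk q : Set F), x = g * r.elt c * g⁻¹} := by
  ext x
  constructor
  · intro hx
    obtain ⟨u, ⟨c, hc, rfl⟩, rfl⟩ := mem_conjG.1 hx
    exact ⟨c, hc, rfl⟩
  · rintro ⟨c, hc, rfl⟩
    exact mem_conjG.2 ⟨r.elt c, ⟨c, hc, rfl⟩, rfl⟩

lemma usup_eq_closure (hF : Fintype.card F = q ^ 2) (g : GL (Idx t k) F) (r₁ r₂ : RD t k F) :
    ugrp hF r₁ ⊔ conjG g (ugrp hF r₂) =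
      Subgroup.closure ({x | ∃ c ∈ (Sk q : Set F), x = r₁.elt c} ∪
        {x | ∃ c ∈ (Sk q : Set F), x = g * r₂.elt c * g⁻¹}) := by
  rw [Subgroup.closure_union, ← coe_ugrp hF r₁, ← coe_conj_ugrp hF g r₂, Subgroup.closure_eq, Subgroup.closure_eq]

lemma N_mulVec_mem_W (r : RD t k F) (v : Idx t k → F) : r.N *ᵥ v ∈ r.W := by
  rw [← RD_range_N r]
  exact ⟨v, by rw [Matrix.toLin'_apply]⟩

lemma N_mulVec_eq_zero (r : RD t k F) {v : Idx t k → F} (hv : v ∈ r.C) : r.N *ᵥ v = 0 := by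
  rw [← RD_ker_N r] at hv
  have := LinearMap.mem_ker.1 hv
  rwa [Matrix.toLin'_apply] at this

lemma mv_mem_img {g : GL (Idx t k) F} {S : Submodule F (Idx t k → F)} {v : Idx t k → F} (hv : v ∈ S) :
    mv g v ∈ img g S := ⟨v, hv, by rw [Matrix.toLin'_apply]; rfl⟩

lemma inv_mv_mem_of_mem_img {g : GL (Idx t k) F} {S : Submodule F (Idx t k → F)} {v : Idx t k → F}
    (hv : v ∈ img g S) : mv g⁻¹ v ∈ S := by
  obtain ⟨w, hw, rfl⟩ := hv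
  rw [Matrix.toLin'_apply]
  change mv g⁻¹ (mv g w) ∈ S
  rw [b0_mv_inv_mv]
  exact hw

theorem b0U {X : Subgroup (GL (Idx t k) F)} (c : CtxU q X) (g : GL (Idx t k) F) (r₁ r₂ : RD t k F) (hr₁ : RU q r₁)
    (hr₂ : RU q r₂) (x : GL (Idx t k) F) (K' : KeyU c.hF g r₁ r₂ x r₁) (K : Submodule F (Idx t k → F))
    (hK1 : K ≤ r₁.W ⊓ img g r₂.W) (hK2 : r₁.W ⊓ (img g r₂.W ⊔ (r₁.C ⊓ img g r₂.C)) ≤ K)
    (ν : F) (hν0 : ν ≠ 0) (hνq : ν ^ q = ν) :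
    ∃ b₀ ∈ ugrp c.hF r₁ ⊔ conjG g (ugrp c.hF r₂), (∀ v ∈ r₁.C ⊓ img g r₂.C, mv b₀ v = v) ∧
      ∀ v ∈ r₁.W, mv b₀ v - ν⁻¹ • v ∈ K := by
  have hF := c.hF
  rw [usup_eq_closure c.hF g r₁ r₂]
  have hWC' : img g r₂.W ≤ img g r₂.C := (img_le_img_iff g _ _).2 (RD_W_le_C r₂)
  refine exists_b0_nu r₁.N ((g : Matrix (Idx t k) (Idx t k) F) * r₂.N * ((g⁻¹ : GL (Idx t k) F) : Matrix (Idx t k) (Idx t k) F))
    r₁.W (img g r₂.W) (r₁.C ⊓ img g r₂.C) K ?_ ?_ ?_ ?_ (hK1.trans inf_le_left) (hK1.trans inf_le_right) ?_ hK2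
    (Sk q : Set F) ?_ ν hν0 ?_ ?_ (fun d => r₁.elt d) (fun d => g * r₂.elt d * g⁻¹) ?_ ?_ x ?_ ?_
  · exact fun v => N_mulVec_mem_W r₁ v
  · intro v
    rw [← Matrix.mulVec_mulVec, ← Matrix.mulVec_mulVec]
    exact mv_mem_img (N_mulVec_mem_W r₂ _)
  · intro v hv
    apply N_mulVec_eq_zero
    exact (sup_le (RD_W_le_C r₁) inf_le_left) hv
  · intro v hv
    have hv' : v ∈ img g r₂.C := (sup_le hWC' inf_le_right) hv
    rw [← Matrix.mulVec_mulVec, ← Matrix.mulVec_mulVec]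
    have h0 : r₂.N *ᵥ (((g⁻¹ : GL (Idx t k) F) : Matrix (Idx t k) (Idx t k) F) *ᵥ v) = 0 :=
      N_mulVec_eq_zero r₂ (inv_mv_mem_of_mem_img hv')
    rw [h0, Matrix.mulVec_zero]
  · exact le_inf (hK1.trans (inf_le_left.trans (RD_W_le_C r₁))) (hK1.trans (inf_le_right.trans hWC'))
  · intro d hd
    change (-d) ^ q = -(-d)
    rw [Cfsg.Agent.Lib.Helper20.UT.neg_pow_q hF, mem_Sk.1 hd]
  · intro d hd
    change (ν * d) ^ q = -(ν * d)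
    rw [mul_pow, hνq, mem_Sk.1 hd, mul_neg]
  · intro d hd
    change (ν⁻¹ * d) ^ q = -(ν⁻¹ * d)
    rw [mul_pow, inv_pow, hνq, mem_Sk.1 hd, mul_neg]
  · intro d
    rfl
  · intro d
    rw [Units.val_mul, Units.val_mul, RD.elt_val, mul_add, add_mul, mul_one, ← Units.val_mul, mul_inv_cancel,
      Units.val_one, Matrix.mul_smul, Matrix.smul_mul]
  · rw [← usup_eq_closure c.hF g r₁ r₂]
    exact K'.x_mem
  · intro v hv
    rw [← K'.hW]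
    exact mv_mem_img hv

end Cfsg.Agent.Lib.Helper5.TWULeaf
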