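import Mathlib
import Cfsg.Agent.Lib.Helper5.TWU.Defs
import Cfsg.Agent.Lib.Helper5.TWU.StageIDefs
import Cfsg.Agent.Lib.Helper23.TWUT3

/-!
S5672 Stage I leaves UT1, UT2, UT3, UT4, UT5, UT5', UT5'', UT5''' (`notes/S5672_I_leaves.lean`): wrappers of helper23's
form-level toolkit `Cfsg.Agent.Lib.Helper23.TWUT` to the leaf signatures.
-/

set_option autoImplicit false
set_option linter.unusedSectionVars false
set_option linter.unusedVariables false

namespace Cfsg.Agent.Lib.Helper5.TWULeaf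
open Matrix Cfsg.Geo Cfsg.Agent.Lib.Helper18.AschA89 Cfsg.Agent.Lib.Helper8.TW Cfsg.Agent.Lib.Helper5.TWU
open Cfsg.Agent.Lib.Helper20.UT (hv)

variable {F : Type*} [Field F] [Fintype F] {t k q : ℕ}

theorem hv_pt (v w : Fin t → Fin k → F) : hv q (pt v) (pt w) = ∏ j, hv q (v j) (w j) :=
  Cfsg.Agent.Lib.Helper23.TWUT.hv_pt v w

theorem C_eq_perpU (hF : Fintype.card F = q ^ 2) (r : RD t k F) (hr : RU q r) : r.C = perpU q r.W := by
  show Cf r.i r.η = perpU q (Wf r.i r.y)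
  rw [Cfsg.Agent.Lib.Helper23.TWUT.perpU_Wf hF r.i r.y r.hy, hr.2]

theorem elt_mem_HU (hF : Fintype.card F = q ^ 2) (r : RD t k F) (hr : RU q r) (c : F) (hc : c ^ q = -c) :
    r.elt c ∈ HU t k q F :=
  Cfsg.Agent.Lib.Helper23.TWUT.elt_mem_HU hF hr hc

theorem img_perpU (hF : Fintype.card F = q ^ 2) (g : GL (Idx t k) F) (hg : g ∈ DUV t k q F)
    (W : Submodule F (Idx t k → F)) : img g (perpU q W) = perpU q (img g W) :=
  Cfsg.Agent.Lib.Helper23.TWUT.img_perpU hg W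

theorem finrank_perpU {κ : Type} [Fintype κ] [DecidableEq κ] (hF : Fintype.card F = q ^ 2) (W : Submodule F (κ → F)) :
    Module.finrank F (perpU q W : Submodule F (κ → F)) + Module.finrank F W = Fintype.card κ :=
  Cfsg.Agent.Lib.Helper23.TWUT.finrank_perpU hF W

theorem perpU_perpU {κ : Type} [Fintype κ] [DecidableEq κ] (hF : Fintype.card F = q ^ 2) (W : Submodule F (κ → F)) :
    perpU q (perpU q W) = W :=
  Cfsg.Agent.Lib.Helper23.TWUT.perpU_perpU hF W

theorem perpU_sup {κ : Type} [Fintype κ] (hF : Fintype.card F = q ^ 2) (W W' : Submodule F (κ → F)) :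
    perpU q (W ⊔ W') = perpU q W ⊓ perpU q W' :=
  Cfsg.Agent.Lib.Helper23.TWUT.perpU_sup hF W W'

theorem perpU_anti {κ : Type} [Fintype κ] {W W' : Submodule F (κ → F)} (h : W ≤ W') :
    perpU q W' ≤ perpU q W :=
  Cfsg.Agent.Lib.Helper23.TWUT.perpU_anti h

end Cfsg.Agent.Lib.Helper5.TWULeaf
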