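import Mathlib
import Cfsg.Agent.Lib.Helper5.TWU.Defs
import Cfsg.Agent.Lib.Helper5.TWU.StageIDefs
import Cfsg.Agent.Lib.Helper23.TWUIKey
import Cfsg.Agent.Lib.Helper23.TWUIG
import Cfsg.Agent.Lib.Helper28.TWUIWeyl
import Cfsg.Agent.Lib.Helper16.TWImg

/-!
S5672 Stage I leaf I4b `same_pos_hyp` (`notes/S5672_I_leaves.lean`): in the case (β) with a hyperbolic pair, change `x`
by the Weyl element.
-/

set_option autoImplicit false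
set_option linter.unusedSectionVars false
set_option linter.unusedVariables false

namespace Cfsg.Agent.Lib.Helper5.TWULeaf
open Matrix Cfsg.Geo Cfsg.Agent.Lib.Helper18.AschA89 Cfsg.Agent.Lib.Helper8.TW Cfsg.Agent.Lib.Helper5.TWU
open Cfsg.Agent.Lib.Helper20.UT (hv)
open Cfsg.Agent.Lib.Helper16.TWLeaf (img_mul img_one conjG_mul mem_img_iff img_le_img_iff RD_W_le_C)
open Cfsg.Agent.Lib.Helper23.TWULeaf (usup_le' usup_le_X keyU_congr)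

variable {F : Type*} [Field F] [Fintype F] {t k q : ℕ}

/-- the key from ANY `x ∈ ⟨T₁, T'⟩` with `x⁻¹ g ∈ G` (body of helper23's `keyU`) -/
theorem keyU_of_x {X : Subgroup (GL (Idx t k) F)} (c : CtxU q X) (g : GL (Idx t k) F) (hgX : g ∈ X)
    (r₁ r₂ : RD t k F) (hr₁ : RU q r₁) (hr₂ : RU q r₂) (x : GL (Idx t k) F)
    (hx : x ∈ ugrp c.hF r₁ ⊔ conjG g (ugrp c.hF r₂)) (hh : x⁻¹ * g ∈ Gstd t k F) :
    ∃ r₃ : RD t k F, KeyU c.hF g r₁ r₂ x r₃ := by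
  have hxX : x ∈ X := usup_le_X c g hgX r₁ r₂ hr₁ hr₂ hx
  have hhD : x⁻¹ * g ∈ DUV t k q F := c.hXD (X.mul_mem (X.inv_mem hxX) hgX)
  have hk2 : 2 ≤ k := le_trans (by norm_num) c.hk
  obtain ⟨r₃, hr₃, hW3, hC3, -⟩ := Cfsg.Agent.Lib.Helper23.TWULeaf.G_act_RU c.hF hk2 (x⁻¹ * g) hh hhD r₂ hr₂
  have hxg : x * (x⁻¹ * g) = g := by group
  have hx' : x ∈ r₁.grp ⊔ conjG g r₂.grp := usup_le' c.hF g r₁ r₂ hx
  have hxi : x⁻¹ ∈ r₁.grp ⊔ conjG g r₂.grp := Subgroup.inv_mem _ hx'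
  obtain ⟨hx1, hx2⟩ := Cfsg.Agent.Lib.Helper23.TWLeaf.G0_props g r₁ r₂ x hx'
  obtain ⟨hxi1, hxi2⟩ := Cfsg.Agent.Lib.Helper23.TWLeaf.G0_props g r₁ r₂ x⁻¹ hxi
  have hW3' : r₃.W = img x⁻¹ (img g r₂.W) := by
    rw [← hW3, img_mul]
  have hWC' : img g r₂.W ≤ img g r₂.C := (img_le_img_iff g _ _).2 (RD_W_le_C r₂)
  refine ⟨r₃, ⟨hr₃, hx, hh, ?_, ?_, ?_, hx1, hx2⟩⟩
  · rw [← hW3, ← img_mul, hxg]
  · intro w hw
    rw [hW3', mem_img_iff, inv_inv] at hw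
    have h1 := hxi1 (mv x w)
    rw [Cfsg.Agent.Lib.Helper23.TWLeaf.i1_mv_inv_mv] at h1
    have : w = mv x w + (w - mv x w) := by abel
    rw [this]
    exact Submodule.add_mem _ (Submodule.mem_sup_right hw) h1
  · intro v hv'
    have hvD : v ∈ r₁.C ⊓ img g r₂.C := ⟨hv'.2, hWC' hv'.1⟩
    have hfix := hxi2 v hvD
    rw [hW3', ← hfix]
    exact Cfsg.Agent.Lib.Helper23.TWLeaf.i1_mv_mem_img x⁻¹ _ hv'.1

lemma conj_mem_of_mem {G₀ : Subgroup (GL (Idx t k) F)} {a : GL (Idx t k) F} (ha : a ∈ G₀)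
    {T : Subgroup (GL (Idx t k) F)} (hT : T ≤ G₀) : conjG a T ≤ G₀ := by
  intro u hu
  obtain ⟨v, hv, rfl⟩ := mem_conjG.1 hu
  exact G₀.mul_mem (G₀.mul_mem ha (hT hv)) (G₀.inv_mem ha)

/-- I4b case (β), hyperbolic pair -/
theorem same_pos_hyp {X : Subgroup (GL (Idx t k) F)} (c : CtxU q X) (g : GL (Idx t k) F) (hgX : g ∈ X)
    (r₁ r₂ r₃ : RD t k F) (hr₁ : RU q r₁) (hr₂ : RU q r₂) (x : GL (Idx t k) F)
    (K : KeyU c.hF g r₁ r₂ x r₃) (hi : r₃.i = r₁.i) (hnp : hv q r₁.y r₃.y ≠ 0) :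
    ∃ x' : GL (Idx t k) F, KeyU c.hF g r₁ r₂ x' r₁ := by
  have hF := c.hF
  have hk2 : 2 ≤ k := le_trans (by norm_num) c.hk
  set G₀ : Subgroup (GL (Idx t k) F) := ugrp c.hF r₁ ⊔ conjG g (ugrp c.hF r₂) with hG₀
  have hxG₀ : x ∈ G₀ := K.x_mem
  have hxX : x ∈ X := usup_le_X c g hgX r₁ r₂ hr₁ hr₂ K.x_mem
  have hhD : x⁻¹ * g ∈ DUV t k q F := c.hXD (X.mul_mem (X.inv_mem hxX) hgX)
  -- `ugrp r₃ ≤ G₀`
  have h3 : ugrp c.hF r₃ ≤ G₀ := by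
    obtain ⟨r', hr', hW', -, hT'⟩ :=
      Cfsg.Agent.Lib.Helper23.TWULeaf.G_act_RU c.hF hk2 (x⁻¹ * g) K.h_mem hhD r₂ hr₂
    have hWeq : r'.W = r₃.W := by
      rw [← hW', img_mul, ← K.hW, ← img_mul, inv_mul_cancel, img_one]
    rw [← Cfsg.Agent.Lib.Helper23.TWULeaf.ugrp_eq_of_W c.hF hk2 r' r₃ hr' K.hr₃ hWeq, ← hT', conjG_mul]
    exact conj_mem_of_mem (G₀.inv_mem hxG₀) le_sup_right
  -- the Weyl element
  obtain ⟨w, hw, hwG, hwimg⟩ := Cfsg.Agent.Lib.Helper28.TWULeaf.weyl c.hF r₁.i r₁.y r₃.y r₁.hy hr₁.1 r₃.hy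
    K.hr₃.1 hnp
  have hu1 : ugrp c.hF (urd q r₁.i r₁.y r₁.hy hr₁.1) = ugrp c.hF r₁ :=
    Cfsg.Agent.Lib.Helper23.TWULeaf.ugrp_eq_of_W c.hF hk2 _ _ (urd_RU q _ _ _ _) hr₁ rfl
  have hu3 : ugrp c.hF (urd q r₁.i r₃.y r₃.hy K.hr₃.1) = ugrp c.hF r₃ := by
    apply Cfsg.Agent.Lib.Helper23.TWULeaf.ugrp_eq_of_W c.hF hk2 _ _ (urd_RU q _ _ _ _) K.hr₃
    change Wf r₁.i r₃.y = Wf r₃.i r₃.y
    rw [hi]
  rw [hu1, hu3] at hw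
  have hwG₀ : w ∈ G₀ := (sup_le le_sup_left h3) hw
  -- `x' := x * w⁻¹`
  have hx'G₀ : x * w⁻¹ ∈ G₀ := G₀.mul_mem hxG₀ (G₀.inv_mem hwG₀)
  have hh' : (x * w⁻¹)⁻¹ * g ∈ Gstd t k F := by
    have : (x * w⁻¹)⁻¹ * g = w * (x⁻¹ * g) := by group
    rw [this]
    exact (Gstd t k F).mul_mem hwG K.h_mem
  obtain ⟨r₃', K'⟩ := keyU_of_x c g hgX r₁ r₂ hr₁ hr₂ (x * w⁻¹) hx'G₀ hh'
  refine ⟨x * w⁻¹, keyU_congr K' hr₁ ?_⟩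
  -- `r₁.W = r₃'.W`
  have e1 : r₃'.W = img (x * w⁻¹)⁻¹ (img g r₂.W) := by
    rw [← K'.hW, ← img_mul, inv_mul_cancel, img_one]
  have e2 : img (x * w⁻¹)⁻¹ (img g r₂.W) = img w r₃.W := by
    rw [← K.hW, ← img_mul]
    have : (x * w⁻¹)⁻¹ * x = w := by group
    rw [this]
  have e3 : img w r₃.W = r₁.W := by
    change img w (Wf r₃.i r₃.y) = Wf r₁.i r₁.y
    rw [hi]
    exact hwimg
  rw [e1, e2, e3]

end Cfsg.Agent.Lib.Helper5.TWULeaf
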