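import Mathlib
import Cfsg.Agent.Lib.Helper5.TWU.Defs
import Cfsg.Agent.Lib.Helper5.TWU.StageIDefs
import Cfsg.Agent.Lib.Helper23.TWUIKey
import Cfsg.Agent.Lib.Helper26.TWFibA
import Cfsg.Agent.Lib.Helper26.TWFibB
import Cfsg.Agent.Lib.Helper16.TWImg
import Cfsg.Agent.Lib.Helper16.TWRootA
import Cfsg.Agent.Lib.Helper16.TWRootC

/-!
S5672 Stage I leaves I4c `gamma_count` and I4d `thinU` (`notes/S5672_I_leaves.lean`).
-/

set_option autoImplicit false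
set_option linter.unusedSectionVars false
set_option linter.unusedVariables false

namespace Cfsg.Agent.Lib.Helper5.TWULeaf
open Matrix Cfsg.Geo Cfsg.Agent.Lib.Helper18.AschA89 Cfsg.Agent.Lib.Helper8.TW Cfsg.Agent.Lib.Helper5.TWU
open Cfsg.Agent.Lib.Helper20.UT (hv hv_eq_dot)

variable {F : Type*} [Field F] [Fintype F] {t k q : ℕ}

/-- I4d THIN LEMMA (unitary) -/
theorem thinU {X : Subgroup (GL (Idx t k) F)} (c : CtxU q X) (g : GL (Idx t k) F) (hgX : g ∈ X)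
    (hgG : g ∉ Gstd t k F) (r₂ : RD t k F) (hr₂ : RU q r₂) (i : Fin t) (Y : Submodule F (Fin k → F))
    (y₀ : Fin k → F) (hy₀0 : y₀ ≠ 0) (hy₀ : hv q y₀ y₀ = 0) (hY : ∀ a ∈ Y, hv q a y₀ = 0) :
    ¬ img g r₂.W ≤ fib i Y := by
  intro hle
  obtain ⟨x, r₃, K⟩ := Cfsg.Agent.Lib.Helper23.TWULeaf.keyU c g hgX (urd q i y₀ hy₀0 hy₀) r₂
    (urd_RU q i y₀ hy₀0 hy₀) hr₂
  have hYC : fib i Y ≤ (urd q i y₀ hy₀0 hy₀).C := by
    change fib i Y ≤ Cf i (dag q y₀)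
    unfold Cf
    apply Cfsg.Agent.Lib.Helper26.TWLeaf.fib_mono
    intro a ha
    rw [mem_kerF]
    have := hv_eq_dot (q := q) a y₀
    rw [hY a ha] at this
    exact this.symm
  have hle3 : img g r₂.W ≤ r₃.W := by
    refine le_trans ?_ K.h2
    exact le_inf le_rfl (hle.trans hYC)
  have heq : img g r₂.W = r₃.W := by
    apply Submodule.eq_of_le_of_finrank_eq hle3
    rw [Cfsg.Agent.Lib.Helper16.TWLeaf.finrank_img, Cfsg.Agent.Lib.Helper16.TWLeaf.RD_finrank_W,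
      Cfsg.Agent.Lib.Helper16.TWLeaf.RD_finrank_W]
  exact hgG (c.ns g hgX ⟨r₂.i, r₃.i, r₂.y, r₃.y, r₂.hy, r₃.hy, hr₂.1, K.hr₃.1, heq⟩)

/-- I4c the (γ)-COUNT -/
theorem gamma_count {X : Subgroup (GL (Idx t k) F)} (c : CtxU q X) (g : GL (Idx t k) F) (r₁ r₂ r₃ : RD t k F)
    (x : GL (Idx t k) F) (K : KeyU c.hF g r₁ r₂ x r₃) (hne : r₃.i ≠ r₁.i) :
    k ^ (t - 2) * (k - 2) ≤ Module.finrank F (img g r₂.W ⊓ r₁.C : Submodule F (Idx t k → F)) := by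
  -- `W₃ ⊓ C₁ ≤ (W₃ ⊓ W₁) ⊔ (W' ⊓ C₁)`
  have hsub : r₃.W ⊓ r₁.C ≤ (r₃.W ⊓ r₁.W) ⊔ (img g r₂.W ⊓ r₁.C) := by
    rintro v ⟨hv3, hvC⟩
    obtain ⟨w₁, hw₁, w', hw', rfl⟩ := Submodule.mem_sup.1 (K.h1 hv3)
    have hw₁C : w₁ ∈ r₁.C := Cfsg.Agent.Lib.Helper16.TWLeaf.RD_W_le_C r₁ hw₁
    have hw'C : w' ∈ r₁.C := by
      have := r₁.C.sub_mem hvC hw₁C
      rwa [add_sub_cancel_left] at this
    have hw'3 : w' ∈ r₃.W := K.h2 ⟨hw', hw'C⟩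
    have hw₁3 : w₁ ∈ r₃.W := by
      have := r₃.W.sub_mem hv3 hw'3
      rwa [add_sub_cancel_right] at this
    exact Submodule.add_mem_sup ⟨hw₁3, hw₁⟩ ⟨hw', hw'C⟩
  have h1 : Module.finrank F (r₃.W ⊓ r₁.C : Submodule F (Idx t k → F)) = k ^ (t - 2) * 1 * (k - 1) := by
    change Module.finrank F (fib r₃.i (F ∙ r₃.y) ⊓ fib r₁.i (kerF r₁.η) : Submodule F (Idx t k → F)) = _
    rw [Cfsg.Agent.Lib.Helper26.TWLeaf.finrank_fib_inf_fib r₃.i r₁.i hne, finrank_span_singleton r₃.hy,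
      Cfsg.Agent.Lib.Helper26.TWLeaf.finrank_kerF r₁.η r₁.hη]
  have h2 : Module.finrank F (r₃.W ⊓ r₁.W : Submodule F (Idx t k → F)) = k ^ (t - 2) * 1 * 1 := by
    change Module.finrank F (fib r₃.i (F ∙ r₃.y) ⊓ fib r₁.i (F ∙ r₁.y) : Submodule F (Idx t k → F)) = _
    rw [Cfsg.Agent.Lib.Helper26.TWLeaf.finrank_fib_inf_fib r₃.i r₁.i hne, finrank_span_singleton r₃.hy,
      finrank_span_singleton r₁.hy]
  have h3 := Submodule.finrank_mono hsub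
  have h4 := Submodule.finrank_add_le_finrank_add_finrank (r₃.W ⊓ r₁.W) (img g r₂.W ⊓ r₁.C)
  rw [h1] at h3
  rw [h2] at h4
  have hk := c.hk
  obtain ⟨k', rfl⟩ : ∃ k', k = k' + 2 := ⟨k - 2, by omega⟩
  simp only [Nat.add_sub_cancel] at *
  have e1 : (k' + 2) ^ (t - 2) * 1 * (k' + 2 - 1) = (k' + 2) ^ (t - 2) * k' + (k' + 2) ^ (t - 2) := by
    have : k' + 2 - 1 = k' + 1 := by omega
    rw [this]; ring
  rw [e1] at h3
  have e2 : (k' + 2) ^ (t - 2) * 1 * 1 = (k' + 2) ^ (t - 2) := by ring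
  rw [e2] at h4
  omega

end Cfsg.Agent.Lib.Helper5.TWULeaf
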