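import Mathlib
import Cfsg.Agent.Lib.Helper5.TWU.Defs
import Cfsg.Agent.Lib.Helper8.TW.Defs
import Cfsg.Agent.Lib.Helper26.TWFibA
import Cfsg.Agent.Lib.Helper14.TWIIDefs
import Cfsg.Agent.Lib.Helper14.TWUIIDefs
import Cfsg.Agent.Lib.Helper26.TWU2AL3a
import Cfsg.Agent.Lib.Helper4.SUMT
import Cfsg.Agent.S2643

/-!
S5672 Stage II leaf R4 `star_of_QU` (`notes/S5672_II_leaves.lean`; spare by helper5): an element normalising `slot i (Q_U^A(y))`
normalises the linear root group `Q(i,y)`.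
-/

set_option autoImplicit false
set_option linter.unusedSectionVars false
set_option linter.unusedVariables false

namespace Cfsg.Agent.Lib.Helper5.TWUIILeaf
open Matrix Cfsg.Geo Cfsg.Agent.Lib.Helper18.AschA89 Cfsg.Agent.Lib.Helper8.TW Cfsg.Agent.Lib.Helper5.TWU
  Cfsg.Agent.Lib.Helper14.TWII Cfsg.Agent.Lib.Helper14.TWUII
open Cfsg.Agent.Lib.Helper20.UT (hv)

variable {F : Type*} [Field F] [Fintype F] {t k q : ℕ}

/-- the matrix identity: `y v†` is a combination of three Heisenberg matrices and `1` -/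
lemma star_identity (hF : Fintype.card F = q ^ 2) (y v : Fin k → F) (ζ c c' c₀ : F) (hζ : ζ ^ q - ζ ≠ 0) (hc₀ : c₀ ≠ 0) :
    Matrix.vecMulVec y (dag q v) =
      (ζ ^ q - ζ)⁻¹ • (ζ • etaA q y v c + (-1 : F) • etaA q y (ζ • v) c' +
        (-((ζ * c - c') * c₀⁻¹)) • etaA q y 0 c₀ + (1 + (ζ * c - c') * c₀⁻¹ - ζ) • (1 : Matrix (Fin k) (Fin k) F)) := by
  have hq0 : q ≠ 0 := by
    rintro rfl
    have : 2 ≤ Fintype.card F := Fintype.one_lt_card
    rw [hF] at this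
    norm_num at this
  ext a b
  simp only [etaA, Matrix.smul_apply, Matrix.add_apply, Matrix.sub_apply, Matrix.vecMulVec_apply, smul_eq_mul,
    Cfsg.Agent.Lib.Helper20.UT.cj, Pi.smul_apply, Pi.zero_apply, mul_pow, zero_pow hq0, Matrix.one_apply]
  by_cases hab : a = b
  · rw [if_pos hab]
    field_simp
    ring
  · rw [if_neg hab]
    field_simp
    ring


/-- R4 (M-L) **(★)** -/
theorem star_of_QU (hF : Fintype.card F = q ^ 2) (hk : 2 ≤ k) (i : Fin (t + 1)) (y : Fin k → F) (hy0 : y ≠ 0)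
    (hy : hv q y y = 0) (g' : GL (Idx (t + 1) k) F) (hstab : img g' (Wf i y) = Wf i y)
    (hQ : ∀ (w : Fin k → F) (c : F), hv q w y = 0 → c + c ^ q + hv q w w = 0 →
      ∃ M : Matrix (Fin k) (Fin k) F,
        (g' : Matrix (Idx (t + 1) k) (Idx (t + 1) k) F) * slot k (t + 1) i (etaA q y w c) =
          slot k (t + 1) i M * (g' : Matrix (Idx (t + 1) k) (Idx (t + 1) k) F))
    (ξ : Fin k → F) (hξ : ξ ⬝ᵥ y = 0) :
    ∃ ξ'' : Fin k → F, ξ'' ⬝ᵥ y = 0 ∧
      (g' : Matrix (Idx (t + 1) k) (Idx (t + 1) k) F) * rootN i y ξ =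
        rootN i y ξ'' * (g' : Matrix (Idx (t + 1) k) (Idx (t + 1) k) F) := by
  classical
  set G : Matrix (Idx (t + 1) k) (Idx (t + 1) k) F := (g' : Matrix (Idx (t + 1) k) (Idx (t + 1) k) F) with hG
  -- the relation `R A M : G * slot i A = slot i M * G` is linear
  have hadd : ∀ A A' M M' : Matrix (Fin k) (Fin k) F, G * slot k (t + 1) i A = slot k (t + 1) i M * G →
      G * slot k (t + 1) i A' = slot k (t + 1) i M' * G →
      G * slot k (t + 1) i (A + A') = slot k (t + 1) i (M + M') * G := by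
    intro A A' M M' h h'
    rw [slot_add, slot_add, mul_add, add_mul, h, h']
  have hsmul : ∀ (a : F) (A M : Matrix (Fin k) (Fin k) F), G * slot k (t + 1) i A = slot k (t + 1) i M * G →
      G * slot k (t + 1) i (a • A) = slot k (t + 1) i (a • M) * G := by
    intro a A M h
    rw [slot_smul, slot_smul, Matrix.mul_smul, Matrix.smul_mul, h]
  have hone : G * slot k (t + 1) i (1 : Matrix (Fin k) (Fin k) F) = slot k (t + 1) i 1 * G := by
    rw [slot_one, mul_one, one_mul]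
  -- `ξ = v†`
  set v : Fin k → F := fun x => (ξ x) ^ q with hv_def
  have hdv : dag q v = ξ := by
    funext x
    change ((ξ x) ^ q) ^ q = ξ x
    exact Cfsg.Agent.Lib.Helper20.UT.pow_q_pow_q' hF _
  have hyv : hv q y v = 0 := by
    rw [Cfsg.Agent.Lib.Helper20.UT.hv_eq_dot]
    change dag q v ⬝ᵥ y = 0
    rw [hdv]; exact hξ
  have hvy : hv q v y = 0 := Cfsg.Agent.Lib.Helper20.UT.hv_symm_zero hF hyv
  -- the scalars
  obtain ⟨ζ, hζ⟩ := Cfsg.Agent.S2643.exists_not_fixed (K := F) hF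
  have hζ' : ζ ^ q - ζ ≠ 0 := sub_ne_zero.2 hζ
  obtain ⟨c₀, hc₀0, hc₀⟩ := Cfsg.Agent.Lib.Helper4.SUMLeaf.exists_skew (F := F) hF
  obtain ⟨c, hc⟩ := Cfsg.Agent.Lib.Helper26.TWU2ALeaf.exists_tr26 hF (-(hv q v v))
    (by rw [Cfsg.Agent.Lib.Helper20.UT.neg_pow_q hF, Cfsg.Agent.Lib.Helper20.UT.hv_self_pow hF])
  obtain ⟨c', hc'⟩ := Cfsg.Agent.Lib.Helper26.TWU2ALeaf.exists_tr26 hF (-(hv q (ζ • v) (ζ • v)))
    (by rw [Cfsg.Agent.Lib.Helper20.UT.neg_pow_q hF, Cfsg.Agent.Lib.Helper20.UT.hv_self_pow hF])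
  obtain ⟨M1, hM1⟩ := hQ v c hvy (by rw [hc]; ring)
  obtain ⟨M2, hM2⟩ := hQ (ζ • v) c' (by rw [Cfsg.Agent.Lib.Helper20.UT.hv_smul_left, hvy, mul_zero]) (by rw [hc']; ring)
  obtain ⟨M3, hM3⟩ := hQ 0 c₀ (Cfsg.Agent.Lib.Helper20.UT.hv_zero_left q y)
    (by rw [hc₀, Cfsg.Agent.Lib.Helper20.UT.hv_zero_left]; ring)
  -- the conjugate of `N`
  obtain ⟨M, hM⟩ : ∃ M : Matrix (Fin k) (Fin k) F, G * rootN i y ξ = slot k (t + 1) i M * G := by
    refine ⟨(ζ ^ q - ζ)⁻¹ • (ζ • M1 + (-1 : F) • M2 + (-((ζ * c - c') * c₀⁻¹)) • M3 +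
      (1 + (ζ * c - c') * c₀⁻¹ - ζ) • (1 : Matrix (Fin k) (Fin k) F)), ?_⟩
    unfold rootN
    rw [← hdv, star_identity hF y v ζ c c' c₀ hζ' hc₀0]
    exact hsmul _ _ _ (hadd _ _ _ _ (hadd _ _ _ _ (hadd _ _ _ _ (hsmul _ _ _ hM1) (hsmul _ _ _ hM2)) (hsmul _ _ _ hM3))
      (hsmul _ _ _ hone))
  -- `slot i M` maps everything into `W`
  have hGinv : ∀ w : Idx (t + 1) k → F, G *ᵥ (((g'⁻¹ : GL (Idx (t + 1) k) F) : Matrix (Idx (t + 1) k) (Idx (t + 1) k) F) *ᵥ w) = w := by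
    intro w
    rw [Matrix.mulVec_mulVec, hG, ← Units.val_mul, mul_inv_cancel, Units.val_one, Matrix.one_mulVec]
  have hNW : ∀ w : Idx (t + 1) k → F, rootN i y ξ *ᵥ w ∈ Wf i y := by
    intro w x
    rw [Cfsg.Agent.Lib.Helper26.TWLeaf.rootN_mulVec_slice26]
    exact Submodule.smul_mem _ _ (Submodule.mem_span_singleton_self y)
  have hGW : ∀ w ∈ Wf i y, G *ᵥ w ∈ Wf i y := by
    intro w hw
    rw [← hstab]
    exact ⟨w, hw, by rw [Matrix.toLin'_apply]⟩
  have hMW : ∀ w : Idx (t + 1) k → F, slot k (t + 1) i M *ᵥ w ∈ Wf i y := by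
    intro w
    have h1 : slot k (t + 1) i M *ᵥ w = G *ᵥ (rootN i y ξ *ᵥ
        (((g'⁻¹ : GL (Idx (t + 1) k) F) : Matrix (Idx (t + 1) k) (Idx (t + 1) k) F) *ᵥ w)) := by
      rw [Matrix.mulVec_mulVec, hM, ← Matrix.mulVec_mulVec, hGinv]
    rw [h1]
    exact hGW _ (hNW _)
  have hMa : ∀ a : Fin k → F, M *ᵥ a ∈ (F ∙ y) := by
    intro a
    have h1 := hMW (fun x => a (x i)) (fun _ => ⟨0, by omega⟩)
    rw [Cfsg.Agent.Lib.Helper26.TWLeaf.slot_mulVec_slice26] at h1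
    have h2 : slice i (fun _ => (⟨0, by omega⟩ : Fin k)) (fun x : Idx (t + 1) k => a (x i)) = a := by
      funext b
      simp [slice]
    rwa [h2] at h1
  -- `M = y ξ''ᵀ`
  obtain ⟨a₁, ha₁⟩ : ∃ a₁, y a₁ ≠ 0 := by
    by_contra hcon
    simp only [not_exists, not_not] at hcon
    exact hy0 (funext hcon)
  have hMeq : M = Matrix.vecMulVec y (fun b => M a₁ b / y a₁) := by
    ext a b
    obtain ⟨cb, hcb⟩ := Submodule.mem_span_singleton.1 (hMa (Pi.single b 1))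
    have e1 := congrFun hcb a
    have e2 := congrFun hcb a₁
    simp only [Pi.smul_apply, smul_eq_mul, Matrix.mulVec_single_one, Matrix.col_apply] at e1 e2
    rw [Matrix.vecMulVec_apply, ← e1, ← e2]
    field_simp
  refine ⟨fun b => M a₁ b / y a₁, ?_, ?_⟩
  · -- `slot i M` kills `W`
    have hyW : (fun x : Idx (t + 1) k => y (x i)) ∈ Wf i y := by
      intro x
      have : slice i x (fun x : Idx (t + 1) k => y (x i)) = y := by
        funext b
        simp [slice]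
      rw [this]
      exact Submodule.mem_span_singleton_self y
    have hyW' : (fun x : Idx (t + 1) k => y (x i)) ∈ img g' (Wf i y) := by rw [hstab]; exact hyW
    obtain ⟨w', hw', hw'eq⟩ := hyW'
    rw [Matrix.toLin'_apply] at hw'eq
    have hN0 : rootN i y ξ *ᵥ w' = 0 := by
      apply Cfsg.Agent.Lib.Helper26.TWLeaf.ext_slice26 i
      intro x
      rw [Cfsg.Agent.Lib.Helper26.TWLeaf.rootN_mulVec_slice26]
      obtain ⟨cx, hcx⟩ := Submodule.mem_span_singleton.1 (hw' x)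
      rw [← hcx, dotProduct_smul, hξ, smul_zero, zero_smul]
      rfl
    have h0 : slot k (t + 1) i M *ᵥ (fun x : Idx (t + 1) k => y (x i)) = 0 := by
      rw [← hw'eq, Matrix.mulVec_mulVec, ← hM, ← Matrix.mulVec_mulVec, hN0, Matrix.mulVec_zero]
    have h1 : M *ᵥ y = 0 := by
      have := congrArg (slice i (fun _ => (⟨0, by omega⟩ : Fin k))) h0
      rw [Cfsg.Agent.Lib.Helper26.TWLeaf.slot_mulVec_slice26] at this
      have h2 : slice i (fun _ => (⟨0, by omega⟩ : Fin k)) (fun x : Idx (t + 1) k => y (x i)) = y := by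
        funext b
        simp [slice]
      rw [h2] at this
      rw [this]
      rfl
    rw [hMeq] at h1
    have h3 := congrFun h1 a₁
    simp only [Matrix.mulVec, dotProduct, Matrix.vecMulVec_apply, Pi.zero_apply] at h3
    have h4 : ∑ x, y a₁ * (M a₁ x / y a₁) * y x = y a₁ * ((fun b => M a₁ b / y a₁) ⬝ᵥ y) := by
      simp only [dotProduct, Finset.mul_sum]
      apply Finset.sum_congr rfl
      intro x _
      ring
    rw [h4] at h3
    rcases mul_eq_zero.1 h3 with h5 | h5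
    · exact absurd h5 ha₁
    · exact h5
  · rw [hM]
    unfold rootN
    rw [← hMeq]

end Cfsg.Agent.Lib.Helper5.TWUIILeaf
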