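import Mathlib
import Cfsg.Agent.Lib.Helper20.UTDefs
import Cfsg.Agent.Lib.Helper23.TWUT
import Cfsg.Agent.Lib.Helper26.TWUIQf0
import Cfsg.Agent.Lib.Helper4.SUMT

/-!
S5672 Stage I, leaf I7-B `planeB` (plane argument B, `k = 4`), part 1: the field/form algebra.

* `sim_quadratic`: a similitude `ψ` (multiplier `c'`) of a unitary space with `ψ² = Tψ - D` and without eigenvectors has
  `D D̄ = c'²`, `T D̄ = c' T̄`;
* `exists_root_of_rel`: under these relations `X² - TX + D` has a root in `F` (`|F| = q²`).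
-/

set_option autoImplicit false
set_option linter.unusedSectionVars false
set_option linter.unusedVariables false

namespace Cfsg.Agent.Lib.Helper5.TWULeaf
open Matrix
open Cfsg.Agent.Lib.Helper20.UT (hv hv_add_left hv_smul_left hv_sub_left hv_smul_right hv_sub_right hv_conj
  hv_self_pow pow_q_pow_q' add_pow_q neg_pow_q)

variable {F : Type*} [Field F] [Fintype F] {q : ℕ}

lemma pb_q_ne_zero (hF : Fintype.card F = q ^ 2) : q ≠ 0 := by
  rintro rfl
  have : 2 ≤ Fintype.card F := Fintype.one_lt_card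
  omega

lemma pb_hv_single {ι : Type} [Fintype ι] [DecidableEq ι] (hF : Fintype.card F = q ^ 2) (x₀ : ι) :
    hv q (Pi.single x₀ (1 : F)) (Pi.single x₀ (1 : F)) = 1 := by
  rw [Cfsg.Agent.Lib.Helper23.TWUT.hv_single_right (pb_q_ne_zero hF), Pi.single_eq_same]

/-- the relations forced by a similitude with a quadratic minimal polynomial and no eigenvector -/
theorem sim_quadratic {ι : Type} [Fintype ι] [DecidableEq ι] [Nonempty ι] (hF : Fintype.card F = q ^ 2)
    (ψ : Matrix ι ι F) (c' T D : F) (hc' : c' ≠ 0)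
    (hsim : ∀ b b' : ι → F, hv q (ψ *ᵥ b) (ψ *ᵥ b') = c' * hv q b b')
    (hquad : ∀ b : ι → F, ψ *ᵥ (ψ *ᵥ b) = T • (ψ *ᵥ b) - D • b)
    (hno : ∀ (r : F) (b : ι → F), ψ *ᵥ b = r • b → b = 0) :
    c' ^ q = c' ∧ D * D ^ q = c' ^ 2 ∧ T * D ^ q = c' * T ^ q := by
  obtain ⟨x₀⟩ := ‹Nonempty ι›
  set b₀ : ι → F := Pi.single x₀ 1 with hb₀
  have hb₀1 : hv q b₀ b₀ = 1 := pb_hv_single hF x₀
  have hb₀ne : b₀ ≠ 0 := by
    intro h
    rw [h] at hb₀1
    simp [hv, pb_q_ne_zero hF] at hb₀1
  have hcq : c' ^ q = c' := by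
    have h := hsim b₀ b₀
    rw [hb₀1, mul_one] at h
    rw [← h]
    exact hv_self_pow hF _
  -- the two identities
  have key : ∀ b b' : ι → F,
      (c' ^ 2 - D * D ^ q) * hv q (ψ *ᵥ b) b' = c' * (T * c' - D * T ^ q) * hv q b b' := by
    intro b b'
    have e1 : T * (c' * hv q b b') - D * hv q b (ψ *ᵥ b') = c' * hv q (ψ *ᵥ b) b' := by
      have h := hsim (ψ *ᵥ b) b'
      rw [hquad b, hv_sub_left, hv_smul_left, hv_smul_left, hsim b b'] at h
      exact h
    have e2 : T ^ q * (c' * hv q b b') - D ^ q * hv q (ψ *ᵥ b) b' = c' * hv q b (ψ *ᵥ b') := by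
      have h := hsim b (ψ *ᵥ b')
      rw [hquad b', hv_sub_right hF, hv_smul_right, hv_smul_right, hsim b b'] at h
      exact h
    linear_combination (-c') * e1 + D * e2
  have hDD : c' ^ 2 - D * D ^ q = 0 := by
    by_contra hne
    have hall : ∀ b : ι → F, ψ *ᵥ b = (c' * (T * c' - D * T ^ q) / (c' ^ 2 - D * D ^ q)) • b := by
      intro b
      have h0 : ψ *ᵥ b - (c' * (T * c' - D * T ^ q) / (c' ^ 2 - D * D ^ q)) • b = 0 := by
        apply Cfsg.Agent.Lib.Helper23.TWUT.hv_nondeg_left (pb_q_ne_zero hF)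
        intro b'
        rw [hv_sub_left, hv_smul_left]
        have := key b b'
        field_simp
        linear_combination this
      exact sub_eq_zero.1 h0
    exact hb₀ne (hno _ b₀ (hall b₀))
  have hDD' : D * D ^ q = c' ^ 2 := by
    linear_combination -hDD
  have hT : T * c' = D * T ^ q := by
    have h := key b₀ b₀
    rw [hDD, zero_mul, hb₀1, mul_one] at h
    have h2 : T * c' - D * T ^ q = 0 := by
      rcases mul_eq_zero.1 h.symm with h3 | h3
      · exact absurd h3 hc'
      · exact h3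
    linear_combination h2
  refine ⟨hcq, hDD', ?_⟩
  have h := congrArg (fun x => x ^ q) hT
  simp only [mul_pow] at h
  rw [hcq, pow_q_pow_q' hF] at h
  linear_combination -h

/-- `X² - TX + D` has a root in `F` under the relations of `sim_quadratic` -/
theorem exists_root_of_rel (hF : Fintype.card F = q ^ 2) (T D c' : F) (hc' : c' ≠ 0) (hc'q : c' ^ q = c')
    (h1 : D * D ^ q = c' ^ 2) (h2 : T * D ^ q = c' * T ^ q) : ∃ r : F, r * r - T * r + D = 0 := by
  have hq0 := pb_q_ne_zero hF
  have hD : D ≠ 0 := by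
    rintro rfl
    rw [zero_mul] at h1
    exact hc' ((pow_eq_zero_iff (two_ne_zero)).1 h1.symm)
  by_cases hT : T = 0
  · -- `-D` is a square
    subst hT
    set w : F := D / c' with hw
    have hww : w * w ^ q = 1 := by
      rw [hw, div_pow, hc'q, div_mul_div_comm, h1, sq, div_self (mul_ne_zero hc' hc')]
    have hw0 : w ≠ 0 := div_ne_zero hD hc'
    obtain ⟨u, hu0, hu⟩ : ∃ u : F, u ≠ 0 ∧ u = w * u ^ q := by
      by_cases hw1 : 1 + w = 0
      · obtain ⟨s, hs0, hs⟩ := Cfsg.Agent.Lib.Helper4.SUMLeaf.exists_skew (q := q) hF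
        refine ⟨s, hs0, ?_⟩
        have : w = -1 := by linear_combination hw1
        rw [this, hs]; ring
      · refine ⟨1 + w, hw1, ?_⟩
        rw [add_pow_q hF, one_pow, mul_add, mul_one, hww, add_comm]
    have huq0 : u ^ q ≠ 0 := pow_ne_zero _ hu0
    set e : F := -c' / (u * u ^ q) with he
    have heq : e ^ q = e := by
      rw [he, div_pow, neg_pow_q hF, hc'q, mul_pow, pow_q_pow_q' hF, mul_comm (u ^ q) u]
    obtain ⟨x, hx⟩ := Cfsg.Agent.Lib.Helper26.TWULeaf.qf0 hF 0 (-e) (zero_pow hq0)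
      (by rw [neg_pow_q hF, heq])
    refine ⟨x * u, ?_⟩
    have hx2 : x ^ 2 = e := by linear_combination hx
    have hDw : D = c' * w := by rw [hw]; field_simp
    have : x * u * (x * u) = e * u ^ 2 := by rw [← hx2]; ring
    rw [this, zero_mul, sub_zero, he, hDw]
    have hu' : u ^ 2 = w * (u * u ^ q) := by
      calc u ^ 2 = u * u := sq u
        _ = u * (w * u ^ q) := by rw [← hu]
        _ = w * (u * u ^ q) := by ring
    rw [hu']
    field_simp
    ring
  · -- substitute `X = T Z`
    have hTq : T ^ q ≠ 0 := pow_ne_zero _ hT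
    have hD2 : D * T ^ q = c' * T := by
      have h := congrArg (fun x => x ^ q) h2
      simp only [mul_pow] at h
      rw [hc'q, pow_q_pow_q' hF, pow_q_pow_q' hF] at h
      linear_combination h
    set e : F := D / T ^ 2 with he
    have heq : e ^ q = e := by
      have hDq : D ^ q = c' * T ^ q / T := by
        field_simp
        linear_combination h2
      have hDe : D = c' * T / T ^ q := by
        field_simp
        linear_combination hD2
      rw [he, div_pow, hDq, ← pow_mul, mul_comm 2 q, pow_mul]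
      rw [hDe]
      field_simp
    obtain ⟨z, hz⟩ := Cfsg.Agent.Lib.Helper26.TWULeaf.qf0 hF (-1) e
      (by rw [neg_pow_q hF, one_pow]) heq
    refine ⟨T * z, ?_⟩
    have hDe : D = T ^ 2 * e := by rw [he]; field_simp
    rw [hDe]
    linear_combination T ^ 2 * hz

end Cfsg.Agent.Lib.Helper5.TWULeaf
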