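import Mathlib
import Cfsg.Agent.Lib.Helper5.TWU.Defs
import Cfsg.Agent.Lib.Helper5.TWU.StageIDefs
import Cfsg.Agent.Lib.Helper5.TWU.IPlaneB1
import Cfsg.Agent.Lib.Helper5.TWU.IB0
import Cfsg.Agent.Lib.Helper22.TWExtBasic
import Cfsg.Agent.Lib.Helper22.TWExtMore
import Cfsg.Agent.Lib.Helper22.TWQStab
import Cfsg.Agent.Lib.Helper26.TWFibA
import Cfsg.Agent.Lib.Helper26.TWFibB
import Cfsg.Agent.Lib.Helper16.TWImg
import Cfsg.Agent.Lib.Helper16.TWRootC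
import Cfsg.Agent.Lib.Helper6.TWPL
import Cfsg.Agent.Lib.Helper23.TWUIUT1

/-!
S5672 Stage I, leaf I7-B `planeB` (plane argument B, `k = 4`), part 2: the tensor toolkit and the CORE
(`planeB_core`: from the element `h` of `plane_h` to a contradiction).
-/

set_option autoImplicit false
set_option linter.unusedSectionVars false
set_option linter.unusedVariables false

namespace Cfsg.Agent.Lib.Helper5.TWULeaf
open Matrix Cfsg.Geo Cfsg.Agent.Lib.Helper18.AschA89 Cfsg.Agent.Lib.Helper8.TW Cfsg.Agent.Lib.Helper5.TWU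
open Cfsg.Agent.Lib.Helper20.UT (hv hv_add_left hv_smul_left hv_smul_right hv_add_right hv_eq_dot hv_symm_zero)

variable {F : Type*} [Field F] [Fintype F] {t k q : ℕ}

/-! ### `tens` is bilinear -/

lemma pb_tens_add_left (i : Fin (t + 1)) (b b' : Idx t k → F) (a : Fin k → F) :
    tens i (b + b') a = tens i b a + tens i b' a := by
  funext x; simp only [tens, Pi.add_apply]; ring

lemma pb_tens_smul_left (i : Fin (t + 1)) (c : F) (b : Idx t k → F) (a : Fin k → F) :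
    tens i (c • b) a = c • tens i b a := by
  funext x; simp only [tens, Pi.smul_apply, smul_eq_mul]; ring

lemma pb_tens_neg_left (i : Fin (t + 1)) (b : Idx t k → F) (a : Fin k → F) :
    tens i (-b) a = - tens i b a := by
  funext x; simp only [tens, Pi.neg_apply]; ring

lemma pb_tens_add_right (i : Fin (t + 1)) (b : Idx t k → F) (a a' : Fin k → F) :
    tens i b (a + a') = tens i b a + tens i b a' := by
  funext x; simp only [tens, Pi.add_apply]; ring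

lemma pb_tens_smul_right (i : Fin (t + 1)) (b : Idx t k → F) (c : F) (a : Fin k → F) :
    tens i b (c • a) = c • tens i b a := by
  funext x; simp only [tens, Pi.smul_apply, smul_eq_mul]; ring

lemma pb_ctr_tens_add (i : Fin (t + 1)) (ξ : Fin k → F) (b₁ b₂ : Idx t k → F) (y₁ y₂ : Fin k → F) :
    ctr i ξ (tens i b₁ y₁ + tens i b₂ y₂) = (ξ ⬝ᵥ y₁) • b₁ + (ξ ⬝ᵥ y₂) • b₂ := by
  rw [Cfsg.Agent.Lib.Helper22.TWLeaf.ctr_add, Cfsg.Agent.Lib.Helper22.TWLeaf.ctr_tens,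
    Cfsg.Agent.Lib.Helper22.TWLeaf.ctr_tens]

lemma pb_ctr_zero (i : Fin (t + 1)) (ξ : Fin k → F) : ctr i ξ (0 : Idx (t + 1) k → F) = 0 := by
  funext u; simp [ctr]

lemma pb_li_swap {y₁ y₂ : Fin k → F} (h : LinearIndependent F ![y₁, y₂]) : LinearIndependent F ![y₂, y₁] :=
  Cfsg.Agent.Lib.Helper6.TWQ.linearIndependent_pair_swap h

/-- independent second factors: the two components are unique -/
lemma pb_tens_pair_zero (i : Fin (t + 1)) {y₁ y₂ : Fin k → F} (hli : LinearIndependent F ![y₁, y₂])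
    (b₁ b₂ : Idx t k → F) (h : tens i b₁ y₁ + tens i b₂ y₂ = 0) : b₁ = 0 ∧ b₂ = 0 := by
  constructor
  · obtain ⟨ξ, h1, h2⟩ := Cfsg.Agent.Lib.Helper6.TWQ.exists_dot_one_zero hli
    have := congrArg (ctr i ξ) h
    rw [pb_ctr_tens_add, pb_ctr_zero, h1, h2, one_smul, zero_smul, add_zero] at this
    exact this
  · obtain ⟨ξ, h1, h2⟩ := Cfsg.Agent.Lib.Helper6.TWQ.exists_dot_one_zero (pb_li_swap hli)
    have := congrArg (ctr i ξ) h
    rw [pb_ctr_tens_add, pb_ctr_zero, h1, h2, one_smul, zero_smul, zero_add] at this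
    exact this

lemma pb_tens_eq_zero (i : Fin (t + 1)) {a : Fin k → F} (ha : a ≠ 0) (b : Idx t k → F)
    (h : tens i b a = 0) : b = 0 := by
  obtain ⟨ξ, hξ⟩ := Cfsg.Agent.Lib.Helper26.TWLeaf.exists_dot_one26 a ha
  have := congrArg (ctr i ξ) h
  rw [Cfsg.Agent.Lib.Helper22.TWLeaf.ctr_tens, pb_ctr_zero, dotProduct_comm, hξ, one_smul] at this
  exact this

lemma pb_tens_mem_fib (i : Fin (t + 1)) (S : Submodule F (Fin k → F)) (b : Idx t k → F) {a : Fin k → F}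
    (ha : a ∈ S) : tens i b a ∈ fib i S := by
  rw [Cfsg.Agent.Lib.Helper22.TWLeaf.mem_fib_iff_ctr]
  intro ξ hξ
  rw [Cfsg.Agent.Lib.Helper22.TWLeaf.ctr_tens, hξ a ha, zero_smul]

lemma pb_mem_of_tens_mem_fib (i : Fin (t + 1)) (S : Submodule F (Fin k → F)) {b : Idx t k → F} (hb : b ≠ 0)
    {a : Fin k → F} (h : tens i b a ∈ fib i S) : a ∈ S := by
  apply Cfsg.Agent.Lib.Helper22.TWLeaf.mem_of_forall_dotProduct
  intro ξ hξ
  have := (Cfsg.Agent.Lib.Helper22.TWLeaf.mem_fib_iff_ctr i S _).1 h ξ hξ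
  rw [Cfsg.Agent.Lib.Helper22.TWLeaf.ctr_tens] at this
  rcases smul_eq_zero.1 this with h0 | h0
  · exact h0
  · exact absurd h0 hb

lemma pb_span_pair (y₁ y₂ : Fin k → F) :
    Submodule.span F ({y₁, y₂} : Set (Fin k → F)) = (F ∙ y₁) ⊔ (F ∙ y₂) := by
  rw [Submodule.span_insert]

lemma pb_fib_pair (i : Fin (t + 1)) (y₁ y₂ : Fin k → F) :
    fib i (Submodule.span F ({y₁, y₂} : Set (Fin k → F))) = Wf i y₁ ⊔ Wf i y₂ := by
  rw [pb_span_pair, Cfsg.Agent.Lib.Helper26.TWLeaf.fib_sup]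
  rfl

lemma pb_mem_fib_pair (i : Fin (t + 1)) {y₁ y₂ : Fin k → F} (h10 : y₁ ≠ 0) (h20 : y₂ ≠ 0) (v : Idx (t + 1) k → F) :
    v ∈ fib i (Submodule.span F ({y₁, y₂} : Set (Fin k → F))) ↔
      ∃ b₁ b₂ : Idx t k → F, v = tens i b₁ y₁ + tens i b₂ y₂ := by
  rw [pb_fib_pair, Submodule.mem_sup]
  constructor
  · rintro ⟨w₁, hw₁, w₂, hw₂, rfl⟩
    obtain ⟨b₁, rfl⟩ := (Cfsg.Agent.Lib.Helper22.TWLeaf.mem_Wf_iff_tens i y₁ h10 w₁).1 hw₁
    obtain ⟨b₂, rfl⟩ := (Cfsg.Agent.Lib.Helper22.TWLeaf.mem_Wf_iff_tens i y₂ h20 w₂).1 hw₂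
    exact ⟨b₁, b₂, rfl⟩
  · rintro ⟨b₁, b₂, rfl⟩
    exact ⟨_, (Cfsg.Agent.Lib.Helper22.TWLeaf.mem_Wf_iff_tens i y₁ h10 _).2 ⟨b₁, rfl⟩, _,
      (Cfsg.Agent.Lib.Helper22.TWLeaf.mem_Wf_iff_tens i y₂ h20 _).2 ⟨b₂, rfl⟩, rfl⟩

lemma pb_finrank_Wf (i : Fin (t + 1)) {y : Fin k → F} (hy : y ≠ 0) :
    Module.finrank F (Wf i y) = k ^ t := by
  unfold Wf
  rw [Cfsg.Agent.Lib.Helper26.TWLeaf.finrank_fib, finrank_span_singleton hy, mul_one, Nat.add_sub_cancel]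

end Cfsg.Agent.Lib.Helper5.TWULeaf
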