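import Mathlib
import Cfsg.Agent.Lib.Helper5.TWU.IPlaneB2

/-!
S5672 Stage I, leaf I7-B `planeB` (plane argument B, `k = 4`), part 3: the CORE.
-/

set_option autoImplicit false
set_option linter.unusedSectionVars false
set_option linter.unusedVariables false
set_option maxHeartbeats 800000

namespace Cfsg.Agent.Lib.Helper5.TWULeaf
open Matrix Cfsg.Geo Cfsg.Agent.Lib.Helper18.AschA89 Cfsg.Agent.Lib.Helper8.TW Cfsg.Agent.Lib.Helper5.TWU
open Cfsg.Agent.Lib.Helper20.UT (hv hv_add_left hv_smul_left hv_smul_right hv_add_right hv_eq_dot hv_symm_zero)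

variable {F : Type*} [Field F] [Fintype F] {t k q : ℕ}

/-- all vectors of a totally isotropic pair are isotropic -/
lemma pb_iso_comb (hF : Fintype.card F = q ^ 2) {y₁ y₂ : Fin k → F} (h1 : hv q y₁ y₁ = 0) (h2 : hv q y₂ y₂ = 0)
    (h12 : hv q y₁ y₂ = 0) (a b : F) : hv q (a • y₁ + b • y₂) (a • y₁ + b • y₂) = 0 := by
  have h21 : hv q y₂ y₁ = 0 := hv_symm_zero hF h12
  rw [hv_add_left, hv_add_right hF, hv_add_right hF, hv_smul_left, hv_smul_left, hv_smul_right, hv_smul_right,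
    hv_smul_left, hv_smul_left, hv_smul_right, hv_smul_right, h1, h2, h12, h21]
  ring

lemma pb_li {y₁ y₂ : Fin k → F} (h10 : y₁ ≠ 0) (hind : ¬ ∃ a : F, y₂ = a • y₁) : LinearIndependent F ![y₁, y₂] := by
  rw [LinearIndependent.pair_iff]
  intro s u hsu
  have hu : u = 0 := by
    by_contra hu
    apply hind
    refine ⟨-(s / u), ?_⟩
    have : u • y₂ = -(s • y₁) := by
      rw [eq_neg_iff_add_eq_zero, add_comm]; exact hsu
    calc y₂ = u⁻¹ • (u • y₂) := by rw [smul_smul, inv_mul_cancel₀ hu, one_smul]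
      _ = -(s / u) • y₁ := by rw [this, smul_neg, smul_smul, neg_smul]; congr 2; field_simp
  subst hu
  rw [zero_smul, add_zero] at hsu
  rcases smul_eq_zero.1 hsu with h | h
  · exact ⟨h, rfl⟩
  · exact absurd h h10

/-- the action of `ext i γ * slot i α` on `b ⊗ a` -/
lemma pb_act (i : Fin (t + 1)) (h : GL (Idx (t + 1) k) F) (γ : Matrix (Idx t k) (Idx t k) F)
    (α : Matrix (Fin k) (Fin k) F)
    (hval : (h : Matrix (Idx (t + 1) k) (Idx (t + 1) k) F) = ext i γ * slot k (t + 1) i α)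
    (b : Idx t k → F) (a : Fin k → F) : mv h (tens i b a) = tens i (γ *ᵥ b) (α *ᵥ a) := by
  unfold mv
  rw [hval, ← Matrix.mulVec_mulVec, Cfsg.Agent.Lib.Helper22.TWLeaf.slot_mulVec_tens,
    Cfsg.Agent.Lib.Helper22.TWLeaf.ext_mulVec_tens]

end Cfsg.Agent.Lib.Helper5.TWULeaf
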