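import Mathlib
import Cfsg.Agent.Lib.Helper5.TWU.IPlaneB3
import Cfsg.Agent.Lib.Helper28.TWUI5

/-!
S5672 Stage I, leaf I7-B `planeB` (plane argument B, `k = 4`), part 4: the subspace `E = Π ∩ C'` is a graph.
-/

set_option autoImplicit false
set_option linter.unusedSectionVars false
set_option linter.unusedVariables false
set_option maxHeartbeats 800000

namespace Cfsg.Agent.Lib.Helper5.TWULeaf
open Matrix Cfsg.Geo Cfsg.Agent.Lib.Helper18.AschA89 Cfsg.Agent.Lib.Helper8.TW Cfsg.Agent.Lib.Helper5.TWU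
open Cfsg.Agent.Lib.Helper20.UT (hv hv_add_left hv_smul_left hv_smul_right hv_add_right hv_eq_dot hv_symm_zero)

variable {F : Type*} [Field F] [Fintype F] {t k q : ℕ}

/-- `E = Π ∩ C'` projects ONTO the first component (`k = 4`) -/
lemma pb_exists_E (hk4 : k = 4) (g : GL (Idx (t + 1) k) F) (r₂ : RD (t + 1) k F) (i : Fin (t + 1))
    {y₁ y₂ : Fin k → F} (h10 : y₁ ≠ 0) (h20 : y₂ ≠ 0) (hind : ¬ ∃ a : F, y₂ = a • y₁)
    (hfr : Wf i y₂ ⊓ img g r₂.C = ⊥) (b : Idx t k → F) :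
    ∃ b₂ : Idx t k → F, tens i b y₁ + tens i b₂ y₂ ∈ img g r₂.C := by
  set P : Submodule F (Idx (t + 1) k → F) := Wf i y₁ ⊔ Wf i y₂ with hP
  set C' : Submodule F (Idx (t + 1) k → F) := img g r₂.C with hC'def
  have hPfin : Module.finrank F P = k ^ t + k ^ t := by
    have := Submodule.finrank_sup_add_finrank_inf_eq (Wf i y₁) (Wf i y₂)
    rw [Cfsg.Agent.Lib.Helper28.TWULeaf.Wf_inf_Wf_same i y₂ y₁ h10 hind, finrank_bot, add_zero,
      pb_finrank_Wf i h10, pb_finrank_Wf i h20] at this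
    exact this
  have hC' : Module.finrank F C' = k ^ t * (k - 1) := by
    rw [hC'def, Cfsg.Agent.Lib.Helper16.TWLeaf.finrank_img, Cfsg.Agent.Lib.Helper16.TWLeaf.RD_finrank_C,
      Nat.add_sub_cancel]
  have hV : Module.finrank F (P ⊔ C' : Submodule F (Idx (t + 1) k → F)) ≤ k ^ (t + 1) := by
    calc Module.finrank F (P ⊔ C' : Submodule F (Idx (t + 1) k → F))
        ≤ Module.finrank F (Idx (t + 1) k → F) := Submodule.finrank_le _
      _ = k ^ (t + 1) := by
        rw [Module.finrank_fintype_fun_eq_card, Fintype.card_fun, Fintype.card_fin, Fintype.card_fin]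
  have hE : k ^ t ≤ Module.finrank F (P ⊓ C' : Submodule F (Idx (t + 1) k → F)) := by
    have := Submodule.finrank_sup_add_finrank_inf_eq P C'
    subst hk4
    rw [pow_succ] at hV
    omega
  have hEW : (P ⊓ C') ⊓ Wf i y₂ = ⊥ := by
    rw [eq_bot_iff, ← hfr]
    exact le_inf inf_le_right (inf_le_left.trans inf_le_right)
  have hsum : (P ⊓ C') ⊔ Wf i y₂ = P := by
    apply Submodule.eq_of_le_of_finrank_le (sup_le inf_le_left le_sup_right)
    have := Submodule.finrank_sup_add_finrank_inf_eq (P ⊓ C') (Wf i y₂)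
    rw [hEW, finrank_bot, add_zero, pb_finrank_Wf i h20] at this
    rw [this, hPfin]
    omega
  have hmem : tens i b y₁ ∈ (P ⊓ C') ⊔ Wf i y₂ := by
    rw [hsum]
    exact (le_sup_left : Wf i y₁ ≤ Wf i y₁ ⊔ Wf i y₂)
      ((Cfsg.Agent.Lib.Helper22.TWLeaf.mem_Wf_iff_tens i y₁ h10 _).2 ⟨b, rfl⟩)
  obtain ⟨e, he, w, hw, hew⟩ := Submodule.mem_sup.1 hmem
  obtain ⟨b', rfl⟩ := (Cfsg.Agent.Lib.Helper22.TWLeaf.mem_Wf_iff_tens i y₂ h20 w).1 hw
  refine ⟨-b', ?_⟩
  have : tens i b y₁ + tens i (-b') y₂ = e := by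
    rw [pb_tens_neg_left, ← hew]; abel
  rw [this]
  exact he.2

end Cfsg.Agent.Lib.Helper5.TWULeaf
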