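import Mathlib
import Cfsg.Agent.Lib.Helper5.TWU.IPlaneB4

/-!
S5672 Stage I, leaf I7-B `planeB` (plane argument B, `k = 4`), part 5: `planeB_core`.
-/

set_option autoImplicit false
set_option linter.unusedSectionVars false
set_option linter.unusedVariables false
set_option maxHeartbeats 1600000

namespace Cfsg.Agent.Lib.Helper5.TWULeaf
open Matrix Cfsg.Geo Cfsg.Agent.Lib.Helper18.AschA89 Cfsg.Agent.Lib.Helper8.TW Cfsg.Agent.Lib.Helper5.TWU
open Cfsg.Agent.Lib.Helper20.UT (hv hv_add_left hv_smul_left hv_smul_right hv_add_right hv_eq_dot hv_symm_zero)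

variable {F : Type*} [Field F] [Fintype F] {t k q : ℕ}

lemma pb_gl_mulVec_cancel {ι : Type} [Fintype ι] [DecidableEq ι] (γ : GL ι F) (b : ι → F) :
    (γ : Matrix ι ι F) *ᵥ (((γ⁻¹ : GL ι F) : Matrix ι ι F) *ᵥ b) = b := by
  rw [Matrix.mulVec_mulVec, ← Units.val_mul, mul_inv_cancel, Units.val_one, Matrix.one_mulVec]

lemma pb_gl_mulVec_cancel' {ι : Type} [Fintype ι] [DecidableEq ι] (γ : GL ι F) (b : ι → F) :
    ((γ⁻¹ : GL ι F) : Matrix ι ι F) *ᵥ ((γ : Matrix ι ι F) *ᵥ b) = b := by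
  rw [Matrix.mulVec_mulVec, ← Units.val_mul, inv_mul_cancel, Units.val_one, Matrix.one_mulVec]

/-- PLANE ARGUMENT B, core: the element `h` of `plane_h` cannot exist when `k = 4` -/
theorem planeB_core (hF : Fintype.card F = q ^ 2) (hk4 : k = 4) (g : GL (Idx (t + 1) k) F) (r₂ : RD (t + 1) k F)
    (fr1 : ∀ (i : Fin (t + 1)) (y : Fin k → F), y ≠ 0 → hv q y y = 0 → img g r₂.W ⊓ Cf i (dag q y) = ⊥)
    (fr2 : ∀ (i : Fin (t + 1)) (y : Fin k → F), y ≠ 0 → hv q y y = 0 → Wf i y ⊓ img g r₂.C = ⊥)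
    (i : Fin (t + 1)) (y₁ y₂ : Fin k → F) (h10 : y₁ ≠ 0) (h1 : hv q y₁ y₁ = 0) (h20 : y₂ ≠ 0) (h2 : hv q y₂ y₂ = 0)
    (h12 : hv q y₁ y₂ = 0) (hind : ¬ ∃ a : F, y₂ = a • y₁)
    (h : GL (Idx (t + 1) k) F) (hG : h ∈ Gstd (t + 1) k F) (hU : h ∈ GUV (t + 1) k q F)
    (himg : img h (Wf i y₁) = Wf i y₂)
    (hh1 : ∀ v, mv h v - v ∈ fib i (Submodule.span F ({y₁, y₂} : Set (Fin k → F))) ⊔ img g r₂.W)
    (hh2 : ∀ v ∈ fib i (Submodule.span F ({y₁, y₂} : Set (Fin k → F))) ⊓ img g r₂.C, mv h v = v) : False := by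
  have hq0 : q ≠ 0 := pb_q_ne_zero hF
  have hk2 : 2 ≤ k := by omega
  have h21 : hv q y₂ y₁ = 0 := hv_symm_zero hF h12
  have hli : LinearIndependent F ![y₁, y₂] := pb_li h10 hind
  -- S1: normal form
  obtain ⟨γ, α, -, hval, s, hs⟩ := Cfsg.Agent.Lib.Helper22.TWQLeaf.stab_form hk2 h hG i y₁ y₂ h10 h20 himg
  have hact : ∀ (b : Idx t k → F) (a : Fin k → F),
      mv h (tens i b a) = tens i ((γ : Matrix (Idx t k) (Idx t k) F) *ᵥ b) ((α : Matrix (Fin k) (Fin k) F) *ᵥ a) :=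
    fun b a => pb_act i h _ _ hval b a
  -- S2: similitudes
  set a₀ : Fin k → F := Pi.single ⟨0, by omega⟩ 1 with ha₀
  set x₀ : Idx t k := fun _ => ⟨0, by omega⟩ with hx₀
  set b₀ : Idx t k → F := Pi.single x₀ 1 with hb₀
  have ha₀1 : hv q a₀ a₀ = 1 := pb_hv_single hF _
  have hb₀1 : hv q b₀ b₀ = 1 := pb_hv_single hF _
  have hb₀ne : b₀ ≠ 0 := by
    intro h0
    rw [h0] at hb₀1
    simp [hv, hq0] at hb₀1
  have hprod : ∀ (b b' : Idx t k → F) (a a' : Fin k → F),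
      hv q ((γ : Matrix (Idx t k) (Idx t k) F) *ᵥ b) ((γ : Matrix (Idx t k) (Idx t k) F) *ᵥ b') *
        hv q ((α : Matrix (Fin k) (Fin k) F) *ᵥ a) ((α : Matrix (Fin k) (Fin k) F) *ᵥ a') =
      hv q b b' * hv q a a' := by
    intro b b' a a'
    have := (mem_GUV.1 hU) (tens i b a) (tens i b' a')
    rw [hact, hact, Cfsg.Agent.Lib.Helper23.TWULeaf.hv_tens, Cfsg.Agent.Lib.Helper23.TWULeaf.hv_tens] at this
    exact this
  set A0 : F := hv q ((α : Matrix (Fin k) (Fin k) F) *ᵥ a₀) ((α : Matrix (Fin k) (Fin k) F) *ᵥ a₀) with hA0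
  set B0 : F := hv q ((γ : Matrix (Idx t k) (Idx t k) F) *ᵥ b₀) ((γ : Matrix (Idx t k) (Idx t k) F) *ᵥ b₀) with hB0
  have hBA : B0 * A0 = 1 := by
    have := hprod b₀ b₀ a₀ a₀
    rw [hb₀1, ha₀1, mul_one] at this
    exact this
  have hA0ne : A0 ≠ 0 := right_ne_zero_of_mul_eq_one hBA
  have hB0ne : B0 ≠ 0 := left_ne_zero_of_mul_eq_one hBA
  have hγsim : ∀ b b' : Idx t k → F,
      hv q ((γ : Matrix (Idx t k) (Idx t k) F) *ᵥ b) ((γ : Matrix (Idx t k) (Idx t k) F) *ᵥ b') = B0 * hv q b b' := by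
    intro b b'
    have := hprod b b' a₀ a₀
    rw [ha₀1, mul_one] at this
    have hA : A0 = B0⁻¹ := eq_inv_of_mul_eq_one_right hBA
    rw [← hA0, hA] at this
    field_simp at this
    linear_combination this
  have hαsim : ∀ a a' : Fin k → F,
      hv q ((α : Matrix (Fin k) (Fin k) F) *ᵥ a) ((α : Matrix (Fin k) (Fin k) F) *ᵥ a') = A0 * hv q a a' := by
    intro a a'
    have := hprod b₀ b₀ a a'
    rw [hb₀1, one_mul] at this
    have hB : B0 = A0⁻¹ := eq_inv_of_mul_eq_one_left hBA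
    rw [← hB0, hB] at this
    field_simp at this
    linear_combination this
  -- S3: `ψ := γ⁻¹` is a similitude with multiplier `A0`
  set ψ : Matrix (Idx t k) (Idx t k) F := ((γ⁻¹ : GL (Idx t k) F) : Matrix (Idx t k) (Idx t k) F) with hψ
  have hγψ : ∀ b : Idx t k → F, (γ : Matrix (Idx t k) (Idx t k) F) *ᵥ (ψ *ᵥ b) = b := fun b => pb_gl_mulVec_cancel γ b
  have hψγ : ∀ b : Idx t k → F, ψ *ᵥ ((γ : Matrix (Idx t k) (Idx t k) F) *ᵥ b) = b := fun b => pb_gl_mulVec_cancel' γ b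
  have hψsim : ∀ b b' : Idx t k → F, hv q (ψ *ᵥ b) (ψ *ᵥ b') = A0 * hv q b b' := by
    intro b b'
    have := hγsim (ψ *ᵥ b) (ψ *ᵥ b')
    rw [hγψ, hγψ] at this
    have hA : A0 = B0⁻¹ := eq_inv_of_mul_eq_one_right hBA
    rw [hA, this]
    field_simp
  -- S4: `α y₂ ∈ Y`
  have hs0 : s ≠ 0 := by
    rintro rfl
    rw [zero_smul] at hs
    apply h10
    have := pb_gl_mulVec_cancel' α y₁
    rw [hs, Matrix.mulVec_zero] at this
    exact this.symm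
  have hperp : hv q ((α : Matrix (Fin k) (Fin k) F) *ᵥ y₂) y₂ = 0 := by
    have := hαsim y₂ y₁
    rw [h21, mul_zero, hs, hv_smul_right] at this
    rcases mul_eq_zero.1 this with h0 | h0
    · exact absurd h0 (pow_ne_zero _ hs0)
    · exact h0
  set Y : Submodule F (Fin k → F) := Submodule.span F ({y₁, y₂} : Set (Fin k → F)) with hY
  have hy₁Y : y₁ ∈ Y := Submodule.subset_span (Set.mem_insert _ _)
  have hy₂Y : y₂ ∈ Y := Submodule.subset_span (Set.mem_insert_of_mem _ rfl)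
  have hαy₂ : (α : Matrix (Fin k) (Fin k) F) *ᵥ y₂ ∈ Y := by
    apply pb_mem_of_tens_mem_fib i Y hb₀ne
    -- `v := b₀ ⊗ α y₂ = h (ψ b₀ ⊗ y₂)`
    have hv1 : tens i b₀ ((α : Matrix (Fin k) (Fin k) F) *ᵥ y₂) = mv h (tens i (ψ *ᵥ b₀) y₂) := by
      rw [hact, hγψ]
    have hu : tens i (ψ *ᵥ b₀) y₂ ∈ fib i Y := pb_tens_mem_fib i Y _ hy₂Y
    have hmem1 : tens i b₀ ((α : Matrix (Fin k) (Fin k) F) *ᵥ y₂) ∈ fib i Y ⊔ img g r₂.W := by
      have := hh1 (tens i (ψ *ᵥ b₀) y₂)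
      rw [← hv1] at this
      have h2' : tens i b₀ ((α : Matrix (Fin k) (Fin k) F) *ᵥ y₂) =
          (tens i b₀ ((α : Matrix (Fin k) (Fin k) F) *ᵥ y₂) - tens i (ψ *ᵥ b₀) y₂) + tens i (ψ *ᵥ b₀) y₂ := by abel
      rw [h2']
      exact Submodule.add_mem _ this (le_sup_left (a := fib i Y) hu)
    have hmem2 : tens i b₀ ((α : Matrix (Fin k) (Fin k) F) *ᵥ y₂) ∈ Cf i (dag q y₂) := by
      unfold Cf
      apply pb_tens_mem_fib
      rw [mem_kerF]
      have := hv_eq_dot (q := q) ((α : Matrix (Fin k) (Fin k) F) *ᵥ y₂) y₂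
      rw [hperp] at this
      exact this.symm
    have hle : fib i Y ≤ Cf i (dag q y₂) := by
      unfold Cf
      apply Cfsg.Agent.Lib.Helper26.TWLeaf.fib_mono
      rw [hY, Submodule.span_le]
      rintro z (rfl | hz)
      · change dag q y₂ ⬝ᵥ z = 0
        rw [← hv_eq_dot]; exact h12
      · rw [Set.mem_singleton_iff] at hz
        subst hz
        change dag q z ⬝ᵥ z = 0
        rw [← hv_eq_dot]; exact h2
    have hmod : (fib i Y ⊔ img g r₂.W) ⊓ Cf i (dag q y₂) = fib i Y := by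
      rw [sup_inf_assoc_of_le _ hle, fr1 i y₂ h20 h2, sup_bot_eq]
    rw [← hmod]
    exact ⟨hmem1, hmem2⟩
  obtain ⟨c₁, c₂, hc⟩ := Submodule.mem_span_pair.1 hαy₂
  -- S5/S6: the relations on `E`
  have hE : ∀ b : Idx t k → F, ∃ b₂ : Idx t k → F, tens i b y₁ + tens i b₂ y₂ ∈ img g r₂.C :=
    fun b => pb_exists_E hk4 g r₂ i h10 h20 hind (fr2 i y₂ h20 h2) b
  have hrel : ∀ b₁ b₂ : Idx t k → F, tens i b₁ y₁ + tens i b₂ y₂ ∈ img g r₂.C →
      ψ *ᵥ b₁ = c₁ • b₂ ∧ ψ *ᵥ b₂ = s • b₁ + c₂ • b₂ := by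
    intro b₁ b₂ hmem
    have hfix := hh2 (tens i b₁ y₁ + tens i b₂ y₂)
      ⟨(pb_mem_fib_pair i h10 h20 _).2 ⟨b₁, b₂, rfl⟩, hmem⟩
    rw [b0_mv_add, hact, hact, hs, ← hc, pb_tens_smul_right, pb_tens_add_right, pb_tens_smul_right,
      pb_tens_smul_right] at hfix
    set γ₁ : Idx t k → F := (γ : Matrix (Idx t k) (Idx t k) F) *ᵥ b₁ with hγ₁
    set γ₂ : Idx t k → F := (γ : Matrix (Idx t k) (Idx t k) F) *ᵥ b₂ with hγ₂
    have hz : tens i (c₁ • γ₂ - b₁) y₁ + tens i (s • γ₁ + c₂ • γ₂ - b₂) y₂ = 0 := by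
      rw [sub_eq_add_neg, sub_eq_add_neg, pb_tens_add_left, pb_tens_add_left, pb_tens_add_left,
        pb_tens_neg_left, pb_tens_neg_left, pb_tens_smul_left, pb_tens_smul_left, pb_tens_smul_left]
      have : s • tens i γ₁ y₂ + (c₁ • tens i γ₂ y₁ + c₂ • tens i γ₂ y₂) - (tens i b₁ y₁ + tens i b₂ y₂) = 0 :=
        sub_eq_zero.2 hfix
      rw [← this]; abel
    obtain ⟨e1, e2⟩ := pb_tens_pair_zero i hli _ _ hz
    have e1' : b₁ = c₁ • γ₂ := (sub_eq_zero.1 e1).symm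
    have e2' : b₂ = s • γ₁ + c₂ • γ₂ := (sub_eq_zero.1 e2).symm
    constructor
    · conv_lhs => rw [e1']
      rw [Matrix.mulVec_smul, hγ₂, hψγ]
    · conv_lhs => rw [e2']
      rw [Matrix.mulVec_add, Matrix.mulVec_smul, Matrix.mulVec_smul, hγ₁, hγ₂, hψγ, hψγ]
  -- S7: the quadratic relation
  have hquad : ∀ b : Idx t k → F, ψ *ᵥ (ψ *ᵥ b) = c₂ • (ψ *ᵥ b) - (-(c₁ * s)) • b := by
    intro b
    obtain ⟨b₂, hb₂⟩ := hE b
    obtain ⟨r1, r2⟩ := hrel b b₂ hb₂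
    rw [r1, Matrix.mulVec_smul, r2, smul_add, smul_smul, smul_smul, neg_smul, sub_neg_eq_add, smul_smul]
    rw [mul_comm c₂ c₁]
    abel
  -- S8: no eigenvector
  have hno : ∀ (r : F) (b : Idx t k → F), ψ *ᵥ b = r • b → b = 0 := by
    intro r b hrb
    obtain ⟨b₂, hb₂⟩ := hE b
    obtain ⟨r1, -⟩ := hrel b b₂ hb₂
    by_cases hc₁ : c₁ = 0
    · rw [hc₁, zero_smul] at r1
      have := hγψ b
      rw [r1, Matrix.mulVec_zero] at this
      exact this.symm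
    · have hb₂' : b₂ = (r / c₁) • b := by
        have : c₁ • b₂ = r • b := by rw [← r1, hrb]
        calc b₂ = c₁⁻¹ • (c₁ • b₂) := by rw [smul_smul, inv_mul_cancel₀ hc₁, one_smul]
          _ = (r / c₁) • b := by rw [this, smul_smul]; congr 1; field_simp
      set y' : Fin k → F := y₁ + (r / c₁) • y₂ with hy'
      have hy'0 : y' ≠ 0 := by
        intro h0
        have := (LinearIndependent.pair_iff.1 hli) 1 (r / c₁) (by rw [one_smul]; exact h0)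
        exact one_ne_zero this.1
      have hy'i : hv q y' y' = 0 := by
        have := pb_iso_comb hF h1 h2 h12 1 (r / c₁)
        rw [one_smul] at this
        exact this
      have hv' : tens i b y₁ + tens i b₂ y₂ = tens i b y' := by
        rw [hb₂', hy', pb_tens_add_right, pb_tens_smul_right, pb_tens_smul_left]
      have hmem : tens i b y' ∈ Wf i y' ⊓ img g r₂.C := by
        refine ⟨(Cfsg.Agent.Lib.Helper22.TWLeaf.mem_Wf_iff_tens i y' hy'0 _).2 ⟨b, rfl⟩, ?_⟩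
        rw [← hv']; exact hb₂
      rw [fr2 i y' hy'0 hy'i, Submodule.mem_bot] at hmem
      exact pb_tens_eq_zero i hy'0 b hmem
  -- S9: the relations and a root
  haveI : Nonempty (Idx t k) := ⟨x₀⟩
  obtain ⟨hcq, hDD, hTD⟩ := sim_quadratic hF ψ A0 c₂ (-(c₁ * s)) hA0ne hψsim hquad hno
  obtain ⟨r, hr⟩ := exists_root_of_rel hF c₂ (-(c₁ * s)) A0 hA0ne hcq hDD hTD
  set v : Idx t k → F := ψ *ᵥ b₀ - (c₂ - r) • b₀ with hv
  have hψv : ψ *ᵥ v = r • v := by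
    rw [hv, Matrix.mulVec_sub, Matrix.mulVec_smul, hquad b₀, smul_sub, smul_smul]
    have hD : r * (c₂ - r) = -(c₁ * s) := by linear_combination -hr
    rw [hD, sub_smul]
    abel
  have hv0 : v = 0 := hno r v hψv
  have : ψ *ᵥ b₀ = (c₂ - r) • b₀ := sub_eq_zero.1 (hv ▸ hv0)
  exact hb₀ne (hno _ b₀ this)

end Cfsg.Agent.Lib.Helper5.TWULeaf
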