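import Mathlib
import Cfsg.Agent.Lib.Helper5.TWU.IPlaneB5
import Cfsg.Agent.Lib.Helper1.TWUIUT8

/-!
S5672 Stage I, leaf I7-B `planeB` (plane argument B, `k = 4`), part 6: `planeB` from `plane_h` (given as a hypothesis).
-/

set_option autoImplicit false
set_option linter.unusedSectionVars false
set_option linter.unusedVariables false

namespace Cfsg.Agent.Lib.Helper5.TWULeaf
open Matrix Cfsg.Geo Cfsg.Agent.Lib.Helper18.AschA89 Cfsg.Agent.Lib.Helper8.TW Cfsg.Agent.Lib.Helper5.TWU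
open Cfsg.Agent.Lib.Helper20.UT (hv hv_symm_zero)

variable {F : Type*} [Field F] [Fintype F] {t k q : ℕ}

/-- PLANE ARGUMENT B (`k = 4`), with the statement of `plane_h` as a hypothesis -/
theorem planeB_of_plane_h {X : Subgroup (GL (Idx t k) F)} (c : CtxU q X) (hk4 : k = 4) (g : GL (Idx t k) F)
    (r₂ : RD t k F) (w : FRWU q X g r₂)
    (hx : ∀ r₁ : RD t k F, RU q r₁ → ∃ x : GL (Idx t k) F, KeyU c.hF g r₁ r₂ x r₁)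
    (hph : ∀ (i : Fin t) (y₁ y₂ : Fin k → F) (h10 : y₁ ≠ 0) (h1 : hv q y₁ y₁ = 0) (h20 : y₂ ≠ 0)
      (h2 : hv q y₂ y₂ = 0) (h12 : hv q y₁ y₂ = 0) (x₁ x₂ : GL (Idx t k) F)
      (K₁ : KeyU c.hF g (urd q i y₁ h10 h1) r₂ x₁ (urd q i y₁ h10 h1))
      (K₂ : KeyU c.hF g (urd q i y₂ h20 h2) r₂ x₂ (urd q i y₂ h20 h2)),
      ∃ h ∈ Gstd t k F, h ∈ GUV t k q F ∧ img h (Wf i y₁) = Wf i y₂ ∧
        (∀ v, mv h v - v ∈ fib i (Submodule.span F {y₁, y₂}) ⊔ img g r₂.W) ∧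
        (∀ v ∈ fib i (Submodule.span F {y₁, y₂}) ⊓ img g r₂.C, mv h v = v)) : False := by
  have hF := c.hF
  obtain ⟨t', rfl⟩ : ∃ t', t = t' + 1 := ⟨t - 1, by have := c.ht; omega⟩
  obtain ⟨y₁, h10, h1⟩ := Cfsg.Agent.Lib.Helper1.TWULeaf.exists_iso (q := q) (k := k) hF (by omega)
  obtain ⟨y₂, h20, h2, h21, hind⟩ :=
    Cfsg.Agent.Lib.Helper1.TWULeaf.exists_iso_perp (q := q) hF (by omega) y₁ h10 h1
  have h12 : hv q y₁ y₂ = 0 := hv_symm_zero hF h21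
  obtain ⟨x₁, K₁⟩ := hx (urd q 0 y₁ h10 h1) (urd_RU q 0 y₁ h10 h1)
  obtain ⟨x₂, K₂⟩ := hx (urd q 0 y₂ h20 h2) (urd_RU q 0 y₂ h20 h2)
  obtain ⟨h, hG, hU, himg, hh1, hh2⟩ := hph 0 y₁ y₂ h10 h1 h20 h2 h12 x₁ x₂ K₁ K₂
  exact planeB_core hF hk4 g r₂ w.fr1 w.fr2 0 y₁ y₂ h10 h1 h20 h2 h12 hind h hG hU himg hh1 hh2

end Cfsg.Agent.Lib.Helper5.TWULeaf
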