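import Mathlib
import Cfsg.Agent.Lib.Helper5.TWU.Defs

/-!
# S5672 (C7 unitary): the induction on the number of tensor factors

`mainTU_of_stages`: `MainTU t k q F` for all `t ≥ 2` from the three stage theorems (given as hypotheses here; they are
supplied in `Cfsg.Agent.Lib.Helper5.TWU.Main`).
-/

set_option autoImplicit false
set_option linter.unusedSectionVars false
set_option linter.unusedVariables false

namespace Cfsg.Agent.Lib.Helper5.TWU
open Matrix Cfsg.Geo Cfsg.Agent.Lib.Helper18.AschA89 Cfsg.Agent.Lib.Helper8.TW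
open Cfsg.Agent.Lib.Helper20.UT (hv)

variable {F : Type*} [Field F] [Fintype F] {k q : ℕ}

theorem mainTU_of_stages
    (hI : ∀ t, 1 ≤ t → ∀ X : Subgroup (GL (Idx (t + 1) k) F), HU (t + 1) k q F ≤ X → X ≤ DUV (t + 1) k q F →
      NSU q X → X ≤ Gstd (t + 1) k F)
    (hII : ∀ t, 1 ≤ t → (2 ≤ t → MainTU t k q F) → ∀ X : Subgroup (GL (Idx (t + 1) k) F), HU (t + 1) k q F ≤ X →
      X ≤ DUV (t + 1) k q F → ¬ NSU q X → ∃ J : Finset (Fin (t + 1)), 2 ≤ J.card ∧ XTU q X J)
    (hIII : ∀ t, 1 ≤ t → (2 ≤ t → MainTU t k q F) → ∀ X : Subgroup (GL (Idx (t + 1) k) F), HU (t + 1) k q F ≤ X →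
      ∀ J : Finset (Fin (t + 1)), 2 ≤ J.card → XTU q X J → SUV (t + 1) k q F ≤ X) :
    ∀ t, 2 ≤ t → MainTU t k q F := by
  have step : ∀ t, 1 ≤ t → (2 ≤ t → MainTU t k q F) → MainTU (t + 1) k q F := by
    intro t ht hind X hHX hXD
    by_cases hNS : NSU q X
    · exact Or.inl (hI t ht X hHX hXD hNS)
    · obtain ⟨J, hJ, hXT⟩ := hII t ht hind X hHX hXD hNS
      exact Or.inr (hIII t ht hind X hHX J hJ hXT)
  intro t ht
  induction t, ht using Nat.le_induction with
  | base => exact step 1 le_rfl (fun h => absurd h (by norm_num))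
  | succ t ht ih => exact step t (by omega) (fun _ => ih)

end Cfsg.Agent.Lib.Helper5.TWU
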