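import Mathlib
import Cfsg.Agent.Lib.Helper5.TWU.Defs
import Cfsg.Agent.Lib.Helper5.TWU.StageIDefs
import Cfsg.Agent.Lib.Helper5.TWU.IUT
import Cfsg.Agent.Lib.Helper5.TWU.IB0
import Cfsg.Agent.Lib.Helper23.TWUQU
import Cfsg.Agent.Lib.Helper23.TWUIKey
import Cfsg.Agent.Lib.Helper1.TWUIUT8
import Cfsg.Agent.Lib.Helper28.TWUI5
import Cfsg.Agent.Lib.Helper28.TWUIFRcore
import Cfsg.Agent.Lib.Helper8.TWUI8g
import Cfsg.Agent.Lib.Helper8.TWUI8a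
import Cfsg.Agent.Lib.Helper8.TWUI6
import Cfsg.Agent.Lib.Helper8.TWUI6k3
import Cfsg.Agent.Lib.Helper26.TWUIPlaneA
import Cfsg.Agent.Lib.Helper26.TWUIPlaneB
import Cfsg.Agent.Lib.Helper5.TWU.I4a
import Cfsg.Agent.Lib.Helper5.TWU.I4b
import Cfsg.Agent.Lib.Helper5.TWU.I4cd

/-!
# S5672 (C7 unitary), STAGE I: `HU ≤ X ≤ DUV`, `NSU q X` ⟹ `X ≤ Gstd`  (planner helper5)

Assembly of the leaves of `notes/S5672_I_leaves.lean` (paper proof `notes/S5672_stageI_helper5.md` §2), proved by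
helper1, helper5, helper8, helper23, helper26, helper28.
-/

set_option autoImplicit false
set_option linter.unusedSectionVars false
set_option linter.unusedVariables false

namespace Cfsg.Agent.Lib.Helper5.TWU.StageI
open Matrix Cfsg.Geo Cfsg.Agent.Lib.Helper18.AschA89 Cfsg.Agent.Lib.Helper8.TW Cfsg.Agent.Lib.Helper5.TWU
open Cfsg.Agent.Lib.Helper20.UT (hv)
open Cfsg.Agent.Lib.Helper23.TWUQ (NSp FCp)
open Cfsg.Agent.Lib.Helper5.TWULeaf (nonempty_RU same_pos_ti same_pos_hyp gamma_count thinU)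
open Cfsg.Agent.Lib.Helper23.TWULeaf (keyU keyU_congr)
open Cfsg.Agent.Lib.Helper1.TWULeaf (exists_iso_in exists_iso_perp)
open Cfsg.Agent.Lib.Helper28.TWULeaf (exists_maxCfgU L_eq_L0 Wf_inf_Wf_same finrank_Wf_inf_Wf fr2U fr1U_of_key)
open Cfsg.Agent.Lib.Helper8.TWULeaf (I8_gamma I8_alpha step6 step6_three)
open Cfsg.Agent.Lib.Helper26.TWULeaf (planeA_of_thin planeB)

variable {F : Type*} [Field F] [Fintype F] {t k q : ℕ}

theorem Sk_eq_skewS : (Sk q : Set F) = Cfsg.Agent.Lib.Helper23.TWUQ.skewS F q :=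
  Cfsg.Agent.Lib.Helper23.TWUQU.Sk_eq_skewS

theorem iso_of_img (hF : Fintype.card F = q ^ 2) (hk : 1 ≤ k) (g : GL (Idx t k) F) (hg : g ∈ DUV t k q F) (r : RD t k F)
    (hr : RU q r) (j : Fin t) (z : Fin k → F) (hz : z ≠ 0) (h : img g (Wf j z) = Wf r.i r.y) : hv q z z = 0 :=
  Cfsg.Agent.Lib.Helper23.TWUQU.iso_of_img (Cfsg.Agent.Lib.Helper23.TWUQU.q_ne_zero hF) hg r.i j r.y z hz hr.1 h

theorem fr1U {X : Subgroup (GL (Idx t k) F)} (c : CtxU q X)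
    (hδ : ∀ g ∈ X, g ∉ Gstd t k F → ∀ (r₂ : RD t k F), RU q r₂ → ∀ (j : Fin t) (z : Fin k → F), z ≠ 0 → hv q z z = 0 →
      Wf j z ⊓ img g r₂.W = ⊥)
    (g : GL (Idx t k) F) (hgX : g ∈ X) (hgG : g ∉ Gstd t k F) (r₂ : RD t k F) (hr₂ : RU q r₂) (i : Fin t)
    (y : Fin k → F) (hy0 : y ≠ 0) (hy : hv q y y = 0) : img g r₂.W ⊓ Cf i (dag q y) = ⊥ :=
  fr1U_of_key c (fun g hg r₁ r₂ h1 h2 => keyU c g hg r₁ r₂ h1 h2) hδ g hgX hgG r₂ hr₂ i y hy0 hy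

/-- `planeA` from helper26's `planeA_of_thin` and `thinU` -/
theorem planeA {X : Subgroup (GL (Idx t k) F)} (c : CtxU q X) (hk5 : 5 ≤ k) (g : GL (Idx t k) F) (r₂ : RD t k F)
    (w : FRWU q X g r₂)
    (hx : ∀ r₁ : RD t k F, RU q r₁ → ∃ x : GL (Idx t k) F, KeyU c.hF g r₁ r₂ x r₁) : False :=
  planeA_of_thin c hk5 g r₂ w hx (fun i Y y₀ h0 h hY => thinU c g w.hgX w.hgG r₂ w.hr₂ i Y y₀ h0 h hY)

/-! ## ASSEMBLY of Stage I (helper5; compiles against the leaves above) -/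

/-- the trichotomy: after changing `x`, either (α) `W₃ = W₁` or (γ) another position -/
theorem key_tri {X : Subgroup (GL (Idx t k) F)} (c : CtxU q X) (g : GL (Idx t k) F) (hgX : g ∈ X)
    (hgG : g ∉ Gstd t k F) (r₁ r₂ : RD t k F) (hr₁ : RU q r₁) (hr₂ : RU q r₂) :
    ∃ (x : GL (Idx t k) F) (r₃ : RD t k F), KeyU c.hF g r₁ r₂ x r₃ ∧ (r₃.W = r₁.W ∨ r₃.i ≠ r₁.i) := by
  obtain ⟨x, r₃, K⟩ := keyU c g hgX r₁ r₂ hr₁ hr₂
  by_cases hi : r₃.i = r₁.i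
  · by_cases hW : r₃.W = r₁.W
    · exact ⟨x, r₃, K, Or.inl hW⟩
    · by_cases hp : hv q r₁.y r₃.y = 0
      · exact (same_pos_ti c g hgX hgG r₁ r₂ r₃ hr₁ hr₂ x K hi hW hp).elim
      · obtain ⟨x', K'⟩ := same_pos_hyp c g hgX r₁ r₂ r₃ hr₁ hr₂ x K hi hp
        exact ⟨x', r₁, K', Or.inl rfl⟩
  · exact ⟨x, r₃, K, Or.inr hi⟩

/-- `δ = 0` for `k ≥ 4` -/
theorem delta_zero_four {X : Subgroup (GL (Idx t k) F)} (c : CtxU q X) (hk4 : 4 ≤ k) :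
    ∀ g ∈ X, g ∉ Gstd t k F → ∀ (r₂ : RD t k F), RU q r₂ → ∀ (j : Fin t) (z : Fin k → F), z ≠ 0 → hv q z z = 0 →
      Wf j z ⊓ img g r₂.W = ⊥ := by
  by_contra hcon
  push Not at hcon
  obtain ⟨g₀, hgX₀, hgG₀, r₂₀, hr₂₀, j₀, z₀, hz₀, hzi₀, hne₀⟩ := hcon
  obtain ⟨g, r₂, j, z, M⟩ := exists_maxCfgU (q := q) X ⟨g₀, hgX₀, hgG₀, r₂₀, hr₂₀, j₀, z₀, hz₀, hzi₀, hne₀⟩
  obtain ⟨y, hy0, hy, hyz, hind⟩ := exists_iso_perp c.hF hk4 z M.hz M.hzi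
  have hzy : hv q z y = 0 := Cfsg.Agent.Lib.Helper20.UT.hv_symm_zero c.hF hyz
  obtain ⟨x, r₃, K, hcase⟩ := key_tri c g M.hgX M.hgG (urd q j y hy0 hy) r₂ (urd_RU q j y hy0 hy) M.hr₂
  obtain ⟨hL, hL0⟩ := L_eq_L0 c g r₂ j z M (urd q j y hy0 hy) r₃ (urd_RU q j y hy0 hy) x rfl hzy K
  rcases hcase with hW | hne
  · -- (α): `L₀ ≤ W(j,y) ∩ W(j,z) = 0`
    apply M.hne
    have h1 : Wf j z ⊓ img g r₂.W ≤ Wf j z ⊓ Wf j y := by
      apply le_inf inf_le_left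
      have : r₃.W = Wf j y := hW
      rw [← this]
      exact hL0
    rw [Wf_inf_Wf_same j y z M.hz hind] at h1
    exact le_bot_iff.mp h1
  · -- (γ): `κ (k-2)/k ≤ dim L₀ ≤ κ/k`
    have hc := gamma_count c g (urd q j y hy0 hy) r₂ r₃ x K hne
    rw [hL] at hc
    have h2 : Module.finrank F (Wf j z ⊓ img g r₂.W : Submodule F (Idx t k → F)) ≤
        Module.finrank F (Wf j z ⊓ Wf r₃.i r₃.y : Submodule F (Idx t k → F)) :=
      Submodule.finrank_mono (le_inf inf_le_left hL0)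
    rw [finrank_Wf_inf_Wf j r₃.i (fun h => hne h.symm) z r₃.y M.hz r₃.hy] at h2
    have hpos : 0 < k ^ (t - 2) := Nat.pow_pos (by omega)
    have : k ^ (t - 2) * 2 ≤ k ^ (t - 2) * (k - 2) := Nat.mul_le_mul_left _ (by omega)
    nlinarith

/-- `δ = 0` for `k = 3` -/
theorem delta_zero_three {X : Subgroup (GL (Idx t k) F)} (c : CtxU q X) (hk3 : k = 3) :
    ∀ g ∈ X, g ∉ Gstd t k F → ∀ (r₂ : RD t k F), RU q r₂ → ∀ (j : Fin t) (z : Fin k → F), z ≠ 0 → hv q z z = 0 →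
      Wf j z ⊓ img g r₂.W = ⊥ := by
  by_contra hcon
  push Not at hcon
  obtain ⟨g₀, hgX₀, hgG₀, r₂₀, hr₂₀, j₀, z₀, hz₀, hzi₀, hne₀⟩ := hcon
  obtain ⟨g, r₂, j, z, M⟩ := exists_maxCfgU (q := q) X ⟨g₀, hgX₀, hgG₀, r₂₀, hr₂₀, j₀, z₀, hz₀, hzi₀, hne₀⟩
  obtain ⟨x, r₃, K, hcase⟩ := key_tri c g M.hgX M.hgG (urd q j z M.hz M.hzi) r₂ (urd_RU q j z M.hz M.hzi) M.hr₂
  rcases hcase with hW | hne
  · exact I8_alpha c hk3 g r₂ j z M x (keyU_congr K (urd_RU q j z M.hz M.hzi) hW.symm)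
  · exact I8_gamma c hk3 g r₂ j z M x r₃ K hne

theorem delta_zero {X : Subgroup (GL (Idx t k) F)} (c : CtxU q X) :
    ∀ g ∈ X, g ∉ Gstd t k F → ∀ (r₂ : RD t k F), RU q r₂ → ∀ (j : Fin t) (z : Fin k → F), z ≠ 0 → hv q z z = 0 →
      Wf j z ⊓ img g r₂.W = ⊥ := by
  by_cases hk4 : 4 ≤ k
  · exact delta_zero_four c hk4
  · exact delta_zero_three c (by have := c.hk; omega)

theorem frwU_of {X : Subgroup (GL (Idx t k) F)} (c : CtxU q X) (g : GL (Idx t k) F) (hgX : g ∈ X)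
    (hgG : g ∉ Gstd t k F) (r₂ : RD t k F) (hr₂ : RU q r₂) : FRWU q X g r₂ := by
  have hδ := delta_zero c
  have hfr1 : ∀ g ∈ X, g ∉ Gstd t k F → ∀ (r₂ : RD t k F), RU q r₂ → ∀ (i : Fin t) (y : Fin k → F), y ≠ 0 →
      hv q y y = 0 → img g r₂.W ⊓ Cf i (dag q y) = ⊥ :=
    fun g hgX hgG r₂ hr₂ i y hy0 hy => fr1U c hδ g hgX hgG r₂ hr₂ i y hy0 hy
  exact ⟨hgX, hgG, hr₂, hfr1 g hgX hgG r₂ hr₂, fr2U c hfr1 g hgX hgG r₂ hr₂⟩

/-- FR world: for every admissible `r₁` some `x ∈ ⟨T₁, T'⟩` with `x⁻¹ g ∈ G` and `x W₁ = W'` -/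
theorem xy_of_frw {X : Subgroup (GL (Idx t k) F)} (c : CtxU q X) (g : GL (Idx t k) F) (r₂ : RD t k F)
    (w : FRWU q X g r₂) (r₁ : RD t k F) (hr₁ : RU q r₁) :
    ∃ x : GL (Idx t k) F, KeyU c.hF g r₁ r₂ x r₁ := by
  obtain ⟨x, r₃, K, hcase⟩ := key_tri c g w.hgX w.hgG r₁ r₂ hr₁ w.hr₂
  rcases hcase with hW | hne
  · exact ⟨x, keyU_congr K hr₁ hW.symm⟩
  · exfalso
    have hc := gamma_count c g r₁ r₂ r₃ x K hne
    have h0 : img g r₂.W ⊓ r₁.C = ⊥ := by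
      have := w.fr1 r₁.i r₁.y r₁.hy hr₁.1
      have hC : r₁.C = Cf r₁.i (dag q r₁.y) := by
        change Cf r₁.i r₁.η = _
        rw [hr₁.2]
      rw [hC]
      exact this
    rw [h0, finrank_bot] at hc
    have hpos : 0 < k ^ (t - 2) := Nat.pow_pos (by have := c.hk; omega)
    have hk := c.hk
    have : 0 < k ^ (t - 2) * (k - 2) := Nat.mul_pos hpos (by omega)
    omega

theorem I6_mainU {X : Subgroup (GL (Idx t k) F)} (c : CtxU q X) (g : GL (Idx t k) F) (r₂ : RD t k F)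
    (w : FRWU q X g r₂) : False := by
  have hx := xy_of_frw c g r₂ w
  by_cases hq : 3 ≤ q
  · -- Step 6
    have hst : ∀ r₁ : RD t k F, RU q r₁ → ∃ A₀ : Submodule F (Fin k → F), Module.finrank F A₀ = k - 2 ∧
        (∀ a ∈ A₀, hv q a r₁.y = 0) ∧ r₁.y ∉ A₀ ∧ img g r₂.W ≤ fib r₁.i (perpU q A₀) := by
      intro r₁ hr₁
      obtain ⟨x, K'⟩ := hx r₁ hr₁
      exact step6 c hq g r₂ w r₁ hr₁ x K'
    by_cases hk4 : 4 ≤ k
    · obtain ⟨r₁, hr₁⟩ := nonempty_RU (F := F) (t := t) (k := k) (q := q) c.hF (by omega) (by have := c.ht; omega)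
      obtain ⟨A₀, hA₀, hA₀y, hyA₀, hW'⟩ := hst r₁ hr₁
      obtain ⟨x₄, hx₄A, hx₄0, hx₄⟩ := exists_iso_in c.hF A₀ (by rw [hA₀]; omega)
      refine thinU c g w.hgX w.hgG r₂ w.hr₂ r₁.i (perpU q A₀) x₄ hx₄0 hx₄ ?_ hW'
      intro a ha
      exact ha x₄ hx₄A
    · exact step6_three c (by have := c.hk; omega) g r₂ w hst
  · -- `q = 2`, so `k ≥ 4`
    have hq2 : q = 2 := by
      have := Cfsg.Agent.Lib.Helper23.TWUQ.two_le_q c.hF
      omega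
    have hk4 : 4 ≤ k := by
      have h3 := c.hk
      have hex := c.hex
      by_contra h
      exact hex ⟨hq2, by omega⟩
    by_cases hk5 : 5 ≤ k
    · exact planeA c hk5 g r₂ w hx
    · exact planeB c (by omega) g r₂ w hx

theorem stageIU_ctx {X : Subgroup (GL (Idx t k) F)} (c : CtxU q X) : X ≤ Gstd t k F := by
  intro g hgX
  by_contra hgG
  obtain ⟨r₂, hr₂⟩ := nonempty_RU (F := F) (t := t) (k := k) (q := q) c.hF (by have := c.hk; omega)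
    (by have := c.ht; omega)
  exact I6_mainU c g r₂ (frwU_of c g hgX hgG r₂ hr₂)

/-- (Q') for the unitary layer: `NSU ⟹ FCU` -/
theorem fcU_of_nsU (hF : Fintype.card F = q ^ 2) (hk : 3 ≤ k) (hex : ¬ (q = 2 ∧ k = 3))
    (X : Subgroup (GL (Idx t k) F)) (hXD : X ≤ DUV t k q F) (hNS : NSU q X) : FCU q X := by
  apply Cfsg.Agent.Lib.Helper23.TWUQFinal.fcp_of_nsp hk (Iso q) (RU q) (Sk q) X
  · rw [Sk_eq_skewS]
    exact Cfsg.Agent.Lib.Helper23.TWUQ.hS_unitary hF hk hex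
  · intro r hr
    exact hr.1
  · intro g hgX r hr j z hz himg
    exact iso_of_img hF (by omega) g (hXD hgX) r hr j z hz himg
  · exact hNS

/-- STAGE I (unitary) -/
theorem stageIU (hF : Fintype.card F = q ^ 2) (hk : 3 ≤ k) (ht : 2 ≤ t) (hex : ¬ (q = 2 ∧ k = 3))
    (X : Subgroup (GL (Idx t k) F)) (hHX : HU t k q F ≤ X) (hXD : X ≤ DUV t k q F) (hNS : NSU q X) :
    X ≤ Gstd t k F :=
  stageIU_ctx ⟨hF, hk, ht, hex, hHX, hXD, hNS, fcU_of_nsU hF hk hex X hXD hNS⟩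

end Cfsg.Agent.Lib.Helper5.TWU.StageI
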