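import Mathlib
import Cfsg.Agent.Lib.Helper5.TWU.MainOf
import Cfsg.Agent.Lib.Helper5.TWU.StageI
import Cfsg.Agent.Lib.Helper19.TWU3Main

/-!
# S5672: `MainTU` from Stage II alone (Stage I = helper5 `StageI.stageIU`, Stage III = helper19 `stageIII_U` plugged in)
-/

set_option autoImplicit false
set_option linter.unusedSectionVars false
set_option linter.unusedVariables false

namespace Cfsg.Agent.Lib.Helper5.TWU
open Matrix Cfsg.Geo Cfsg.Agent.Lib.Helper18.AschA89 Cfsg.Agent.Lib.Helper8.TW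

variable {F : Type*} [Field F] [Fintype F] {k q : ℕ}

theorem mainTU_of_stageII (hF : Fintype.card F = q ^ 2) (hk : 3 ≤ k) (hex : ¬ (q = 2 ∧ k = 3))
    (hII : ∀ t, 1 ≤ t → (2 ≤ t → MainTU t k q F) → ∀ X : Subgroup (GL (Idx (t + 1) k) F), HU (t + 1) k q F ≤ X →
      X ≤ DUV (t + 1) k q F → ¬ NSU q X → ∃ J : Finset (Fin (t + 1)), 2 ≤ J.card ∧ XTU q X J) :
    ∀ t, 2 ≤ t → MainTU t k q F :=
  mainTU_of_stages
    (fun t ht X hHX hXD hNS => StageI.stageIU hF hk (by omega) hex X hHX hXD hNS)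
    hII
    (fun t ht hind X hHX J hJ h => Cfsg.Agent.Lib.Helper19.TWU3Main.stageIII_U hF hk hex t ht hind X hHX J hJ h)

end Cfsg.Agent.Lib.Helper5.TWU
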