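import Mathlib
import Cfsg.Agent.Lib.Helper5.TWU.MainOfII
import Cfsg.Agent.Lib.Helper14.TWUStageIIB
import Cfsg.Agent.Lib.Helper28.TWU2AMain

/-!
# S5672 (C7 unitary): `MainTU t k q F` for all `t ≥ 2`

Stage I = helper5 (`StageI.stageIU`), Stage II = helper14 (`TWUStageIIB.stageIIU_of_caseA`) + helper28 (`caseAU`),
Stage III = helper19 (`TWU3Main.stageIII_U`); induction `mainTU_of_stages`.
-/

set_option autoImplicit false
set_option linter.unusedSectionVars false
set_option linter.unusedVariables false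

namespace Cfsg.Agent.Lib.Helper5.TWU
open Matrix Cfsg.Geo Cfsg.Agent.Lib.Helper18.AschA89 Cfsg.Agent.Lib.Helper8.TW

variable {F : Type*} [Field F] [Fintype F] {k q : ℕ}

theorem mainTU (hF : Fintype.card F = q ^ 2) (hk : 3 ≤ k) (hex : ¬ (q = 2 ∧ k = 3)) :
    ∀ t, 2 ≤ t → MainTU t k q F :=
  mainTU_of_stageII hF hk hex
    (fun t ht hind X hHX hXD hNS =>
      Cfsg.Agent.Lib.Helper14.TWUStageIIB.stageIIU_of_caseA hF hk hex ht hind X hHX hXD hNS
        (fun j z hz0 hz u huX huG hu =>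
          Cfsg.Agent.Lib.Helper28.TWUIILeaf.caseAU hF hk hex ht X hHX hXD j z hz0 hz u huX huG hu))

end Cfsg.Agent.Lib.Helper5.TWU
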